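import Groth.Agent.SurfBl.K805.Leray
import Groth.Agent.SurfBl.K805.Inv
import Groth.Agent.VarietyB.ProjForm
import Groth.Agent.Krr.H470.BlowAff
import Groth.Agent.SDiv.K470.BlowProj
import Groth.Agent.Divis.IdealComap
import Groth.Agent.Divis.EffCartier
import Groth.Agent.Sga67.LocBasis
import Groth.Agent.Flat2C.Admissible
import Groth.Agent.Dix.Descend515
import Groth.Agent.Fga.PicMon
import Groth.Agent.PerfB.LimMod
import Groth.Agent.Ega2.TensGen
import Groth.Agent.CohqA.AffVan
import Groth.Prelude.Def_W4c2seshadriposJets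

/-!
# The blow-up of a point of a surface: direct images of the powers of the exceptional ideal

`b : Y ⟶ X` the blow-up of a closed point `x` with regular two-dimensional local ring, `I = m_x O_Y`.
* `mem_pow`: a function on an affine open whose pull-back lies in `I^m` lies in `m_x^m`.
* `nonempty_push`: `b_* (I^m) ≅ m_x^m`.
* `acyc`: `I^m ⊗ b^* N` is acyclic for `b_*`, `N` invertible.
* `nonempty_equiv`: `H^p(Y, b^* N ⊗ I^m) ≃ H^p(X, N ⊗ m_x^m)`.
-/

set_option autoImplicit false
universe u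
open CategoryTheory CategoryTheory.Limits AlgebraicGeometry Opposite TopologicalSpace BlowUp Polynomial

namespace K671.BlowPow

open Groth.Agent Groth.Agent.Fdesc Groth.Agent.Fdesc.LocGen K805.GG K805.LF K805.Laurent K805.Main K805.Chart
  K805.ChartOf K805.Reg Groth.Agent.Dix.IdealModCartier

section Ring

variable {R : Type u} [CommRing R] {x y : R}

theorem exists_coeffs (n : ℕ) : ∀ r ∈ (Ideal.span {x, y} : Ideal R) ^ n, ∃ P : R[X], P.natDegree ≤ n ∧
    r = ∑ i ∈ Finset.range (n + 1), P.coeff i * (x ^ (n - i) * y ^ i) := by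
  induction n with
  | zero =>
    intro r _
    exact ⟨Polynomial.C r, by simp, by simp⟩
  | succ n ih =>
    intro r hr
    rw [pow_succ] at hr
    refine Submodule.mul_induction_on hr ?_ ?_
    · intro a ha c hc
      obtain ⟨P, hP, rfl⟩ := ih a ha
      obtain ⟨p, q, rfl⟩ := Ideal.mem_span_pair.1 hc
      refine ⟨Polynomial.C p * P + Polynomial.C q * (P * Polynomial.X), ?_, ?_⟩
      · refine (Polynomial.natDegree_add_le _ _).trans (max_le ?_ ?_)
        · exact (Polynomial.natDegree_C_mul_le _ _).trans (hP.trans n.le_succ)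
        · refine (Polynomial.natDegree_C_mul_le _ _).trans (Polynomial.natDegree_mul_le.trans ?_)
          exact Nat.add_le_add hP Polynomial.natDegree_X_le
      · have h1 : ∀ i, (Polynomial.C p * P + Polynomial.C q * (P * Polynomial.X)).coeff i =
            p * P.coeff i + q * (P * Polynomial.X).coeff i := by
          intro i
          rw [Polynomial.coeff_add, Polynomial.coeff_C_mul, Polynomial.coeff_C_mul]
        simp only [h1, add_mul, Finset.sum_add_distrib]
        rw [mul_add]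
        congr 1
        · rw [Finset.sum_range_succ (n := n + 1)]
          have h2 : P.coeff (n + 1) = 0 := Polynomial.coeff_eq_zero_of_natDegree_lt (by omega)
          rw [h2, mul_zero, zero_mul, add_zero, Finset.sum_mul]
          refine Finset.sum_congr rfl fun i hi => ?_
          have hi' : i ≤ n := Nat.lt_succ_iff.1 (Finset.mem_range.1 hi)
          have h3 : n + 1 - i = (n - i) + 1 := by omega
          rw [h3, pow_succ]
          ring
        · rw [Finset.sum_range_succ' _ (n + 1), Polynomial.coeff_mul_X_zero, mul_zero, zero_mul, add_zero,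
            Finset.sum_mul]
          refine Finset.sum_congr rfl fun i hi => ?_
          have h3 : n + 1 - (i + 1) = n - i := by omega
          rw [Polynomial.coeff_mul_X, h3, pow_succ]
          ring
    · rintro a c ⟨P, hP, rfl⟩ ⟨Q, hQ, rfl⟩
      refine ⟨P + Q, (Polynomial.natDegree_add_le _ _).trans (max_le hP hQ), ?_⟩
      rw [← Finset.sum_add_distrib]
      refine Finset.sum_congr rfl fun i _ => ?_
      rw [Polynomial.coeff_add, add_mul]

theorem eval_coeffs {A : Type u} [CommRing A] (φ : R →+* A) {t : A} (ht : φ y = φ x * t) {n : ℕ} {P : R[X]}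
    (hP : P.natDegree ≤ n) :
    φ (∑ i ∈ Finset.range (n + 1), P.coeff i * (x ^ (n - i) * y ^ i)) = φ x ^ n * P.eval₂ φ t := by
  rw [Polynomial.eval₂_eq_sum_range' φ (Nat.lt_succ_iff.2 hP), map_sum, Finset.mul_sum]
  refine Finset.sum_congr rfl fun i hi => ?_
  have hi' : i ≤ n := Nat.lt_succ_iff.1 (Finset.mem_range.1 hi)
  rw [map_mul, map_mul, map_pow, map_pow, ht, mul_pow]
  calc φ (P.coeff i) * (φ x ^ (n - i) * (φ x ^ i * t ^ i)) =
      (φ x ^ (n - i) * φ x ^ i) * (φ (P.coeff i) * t ^ i) := by ring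
    _ = φ x ^ n * (φ (P.coeff i) * t ^ i) := by rw [← pow_add, Nat.sub_add_cancel hi']

/-- A function divisible by `x ^ m` in the chart lies in `(x, y) ^ m`. -/
theorem mem_pow_of_dvd {A : Type u} [CommRing A] (φ : R →+* A) {t : A} (h : RP x y) (ht : φ y = φ x * t)
    (hφ : Function.Injective φ) (hx : φ x ∈ nonZeroDivisors A) (hgen : ∀ g : A, ∃ P : R[X], g = P.eval₂ φ t) (m : ℕ) :
    ∀ r : R, φ x ^ m ∣ φ r → r ∈ (Ideal.span {x, y} : Ideal R) ^ m := by
  induction m with
  | zero => intro r _; rw [pow_zero, Ideal.one_eq_top]; trivial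
  | succ m ih =>
    rintro r ⟨g, hg⟩
    have h1 : r ∈ (Ideal.span {x, y} : Ideal R) ^ m := ih r ⟨φ x * g, by rw [hg]; ring⟩
    obtain ⟨P, hP, hr⟩ := exists_coeffs m r h1
    have h2 := eval_coeffs φ ht hP
    rw [← hr, hg, pow_succ, mul_assoc] at h2
    have h3 : φ x * g = P.eval₂ φ t :=
      (mul_cancel_left_mem_nonZeroDivisors (pow_mem hx m)).1 h2
    have h4 := h.coeff_mem ht hφ hgen P g h3.symm
    rw [hr]
    refine sum_mem fun i hi => ?_
    have hi' : i ≤ m := Nat.lt_succ_iff.1 (Finset.mem_range.1 hi)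
    rw [pow_succ', ← Nat.sub_add_cancel hi', pow_add, Nat.sub_add_cancel hi']
    refine Ideal.mul_mem_mul (h4 i) (Ideal.mul_mem_mul (Ideal.pow_mem_pow ?_ _) (Ideal.pow_mem_pow ?_ _))
    · exact Ideal.subset_span (by simp)
    · exact Ideal.subset_span (by simp)

theorem isWeaklyRegular_of_rp (h : RP x y) : RingTheory.Sequence.IsWeaklyRegular R [x, y] := by
  rw [RingTheory.Sequence.isWeaklyRegular_cons_iff, RingTheory.Sequence.isWeaklyRegular_cons_iff]
  refine ⟨?_, ?_, RingTheory.Sequence.IsWeaklyRegular.nil _ _⟩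
  · refine fun a c hac => ?_
    have h2 : x * (a - c) = 0 := by
      rw [mul_sub, sub_eq_zero]; exact hac
    exact sub_eq_zero.1 (h.hx _ h2)
  · intro a c hac
    obtain ⟨a, rfl⟩ := Submodule.Quotient.mk_surjective _ a
    obtain ⟨c, rfl⟩ := Submodule.Quotient.mk_surjective _ c
    have h1 : (Submodule.Quotient.mk (y • a) : QuotSMulTop x R) = Submodule.Quotient.mk (y • c) := hac
    rw [Submodule.Quotient.eq, ← smul_sub, Submodule.mem_smul_pointwise_iff_exists] at h1
    obtain ⟨e, -, he⟩ := h1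
    obtain ⟨d, hd⟩ := h.hy (a - c) e (by simpa [smul_eq_mul] using he.symm)
    rw [Submodule.Quotient.eq, Submodule.mem_smul_pointwise_iff_exists]
    exact ⟨d, trivial, by simpa [smul_eq_mul] using hd.symm⟩

end Ring

section Chart

variable {B : Scheme.{u}} {E : B.IdealSheafData} {Ω : B.Opens} {R : Type u} [CommRing R] {φ : R →+* Γ(B, Ω)}
  {x y : R} (D : TC E Ω φ x y)

theorem sums_of_gens {F : B.Modules} {m : ℕ} (gU : Γ(F, D.U.1)) (gV : Γ(F, D.V.1)) (hU : IsGen gU)
    (h : res F D.WU gU = D.sW ^ m • res F D.WV gV) (z : Γ(F, D.W)) : z ∈ D.sums F := by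
  obtain ⟨c, rfl⟩ := (hU.res D.WU).exists_eq z
  have hc : c ∈ D.mon := by rw [D.mon_eq_top]; trivial
  unfold TC.mon at hc
  induction hc using AddSubgroup.closure_induction with
  | mem g hg =>
    rcases hg with ⟨r, n, rfl⟩ | ⟨r, n, rfl⟩
    · rw [mul_smul]
      refine D.psi_smul_mem r ?_
      have h1 : D.tW ^ n • res F D.WU gU = res F D.WU (D.t ^ n • gU) := by
        rw [res_smul, map_pow]; rfl
      rw [h1]
      exact D.resU_mem _
    · rw [mul_smul]
      refine D.psi_smul_mem r ?_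
      have h1 : D.sW ^ n • res F D.WU gU = res F D.WV (D.s ^ (n + m) • gV) := by
        rw [res_smul, map_pow, h, smul_smul, ← pow_add]; rfl
      rw [h1]
      exact D.resV_mem _
  | zero => rw [zero_smul]; exact zero_mem _
  | add a b _ _ iha ihb => rw [add_smul]; exact add_mem iha ihb
  | neg a _ iha => rw [neg_smul]; exact neg_mem iha

theorem pow_ideal (E : B.IdealSheafData) (m : ℕ) (U : B.affineOpens) : (E ^ m).ideal U = E.ideal U ^ m := by
  rw [Scheme.IdealSheafData.ideal_pow, Pi.pow_apply]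

/-- The generators of the powers of the ideal in the charts. -/
theorem exists_gens_pow (m : ℕ) : ∃ (sU : Γ(ClSub.idealMod (E ^ m), D.U.1)) (sV : Γ(ClSub.idealMod (E ^ m), D.V.1)),
    IsGen sU ∧ IsGen sV ∧ res _ D.WU sU = D.sW ^ m • res _ D.WV sV := by
  have iU : (E ^ m).ideal D.U = Ideal.span {ores D.hU (φ x) ^ m} := by
    rw [pow_ideal, D.idU, Ideal.span_singleton_pow]
  have iV : (E ^ m).ideal D.V = Ideal.span {ores D.hV (φ y) ^ m} := by
    rw [pow_ideal, D.idV, Ideal.span_singleton_pow]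
  obtain ⟨sU, hsU⟩ := exists_val_eq (E ^ m) D.U (iU ▸ Ideal.mem_span_singleton_self _)
  obtain ⟨sV, hsV⟩ := exists_val_eq (E ^ m) D.V (iV ▸ Ideal.mem_span_singleton_self _)
  refine ⟨sU, sV, isGen_of_genOn (by rw [hsU]; exact genOn_of_affine (pow_mem D.nzU m) iU),
    isGen_of_genOn (by rw [hsV]; exact genOn_of_affine (pow_mem D.nzV m) iV), ?_⟩
  apply val_injective
  rw [val_smul, val_res, val_res, hsU, hsV, map_pow, map_pow, ores_ores, ores_ores, ← mul_pow, mul_comm]
  congr 1
  exact D.psi_x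

end Chart

variable {X Y : Scheme.{u}} {b : Y ⟶ X}

theorem isQCoh_of_inv {L : X.Modules} (hL : PicF.IsInvertible L) : Coh.IsQCoh L :=
  Ega2.QCohLocal.isQCoh_of_isFinLocFree (Ega2.QCohLocal.isFinLocFree_of_rank
    (Ega2.QCohLocal.isFinLocFreeOfRank_one_iff.mpr hL))

/-- The blow-up of a closed point with regular two-dimensional local ring. -/
structure PtBlow (b : Y ⟶ X) (x : X) (hx : IsClosed ({x} : Set X)) : Prop where
  noeth : IsLocallyNoetherian X
  hb : IsBlowUp b (W4c2seshadripos.pointIdeal x hx)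
  reg : IsRegularLocalRing (X.presheaf.stalk x)
  dim : ringKrullDim (X.presheaf.stalk x) = 2

variable {x : X} {hx : IsClosed ({x} : Set X)}

theorem mem_support_iff (y : X) : y ∈ (W4c2seshadripos.pointIdeal x hx).support ↔ y = x := by
  have h : ((W4c2seshadripos.pointIdeal x hx).support : Set X) = {x} :=
    Scheme.IdealSheafData.coe_support_vanishingIdeal _
  exact Set.ext_iff.1 h y

namespace PtBlow

variable (S : PtBlow b x hx)

include S

/-- Local data in arbitrarily small neighbourhoods. -/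
theorem exists_loc (W : X.Opens) (hW : x ∈ W) :
    ∃ Λ : Loc b (W4c2seshadripos.pointIdeal x hx) x, Λ.U.1 ≤ W := by
  have := S.noeth
  have := S.reg
  obtain ⟨U₀, hU₀, hxU₀, hle⟩ := exists_isAffineOpen_mem_and_subset (U := W) (x := x) hW
  have h0 : (W4c2seshadripos.pointIdeal x hx).ideal ⟨U₀, hU₀⟩ = (hU₀.primeIdealOf ⟨x, hxU₀⟩).asIdeal :=
    K805.Pts.ideal_vanishing ⟨{x}, hx⟩ x hU₀ hxU₀ rfl fun t _ ht => ht
  obtain ⟨U, hxU, hUU, a, c, hJ, ha, hc⟩ := K805.Coord.exists_coord_open (W4c2seshadripos.pointIdeal x hx) x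
    ⟨U₀, hU₀⟩ hxU₀ h0 S.dim
  have h1 : (W4c2seshadripos.pointIdeal x hx).ideal U = (U.2.primeIdealOf ⟨x, hxU⟩).asIdeal :=
    K805.Pts.ideal_vanishing ⟨{x}, hx⟩ x U.2 hxU rfl fun t _ ht => ht
  have hcrd : Crd (W4c2seshadripos.pointIdeal x hx) U a c := ⟨hJ, ha, hc⟩
  obtain ⟨D, h2, h3⟩ := K805.ChartInj.exists_tc S.hb a c hJ ha hc
  exact ⟨⟨U, a, c, hxU, hcrd, h1, rp_of_crd hcrd hxU hx h1 S.reg S.dim, D, h2, h3⟩, hUU.trans hle⟩

theorem setup : Setup b (W4c2seshadripos.pointIdeal x hx)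
    (exceptional b (W4c2seshadripos.pointIdeal x hx)).subschemeι where
  noeth := S.noeth
  hb := S.hb
  crd := by
    intro s
    by_cases hs : s ∈ (W4c2seshadripos.pointIdeal x hx).support
    · obtain rfl := (mem_support_iff s).1 hs
      obtain ⟨Λ, -⟩ := S.exists_loc ⊤ trivial
      exact Or.inr ⟨Λ.U, Λ.x, Λ.y, Λ.hs, Λ.crd, Λ.ideal⟩
    · exact Or.inl hs
  fin := (Set.finite_singleton x).subset fun s hs => (mem_support_iff s).1 hs
  cl := fun s hs => by obtain rfl := (mem_support_iff s).1 hs; exact hx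
  ci := inferInstance
  hi := Scheme.IdealSheafData.ker_subschemeι _

theorem isProper : IsProper b := S.setup.isProper

/-- Local vanishing of the higher cohomology of `b^* N ⊗ I^m`. -/
theorem HU {N : X.Modules} (hN : PicF.IsInvertible N) (m : ℕ) (n : ℕ) (hn : 0 < n) (s : X) :
    ∃ U : X.Opens, s ∈ U ∧ IsAffineOpen U ∧ Subsingleton (CohTop.HU (X := Y.toTopCat)
      (Coh.toAb (CohB1.tensorMod ((Scheme.Modules.pullback b).obj N)
        (ClSub.idealMod (exceptional b (W4c2seshadripos.pointIdeal x hx) ^ m)))) n (b ⁻¹ᵁ U)) := by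
  have hE : BlowUp.IsEffCartierIdeal (exceptional b (W4c2seshadripos.pointIdeal x hx)) := S.hb.1
  have hEm : PicF.IsInvertible (ClSub.idealMod (exceptional b (W4c2seshadripos.pointIdeal x hx) ^ m)) := by
    exact isInvertible_idealMod (Divis.EffCartier.isEff_pow hE m)
  have hF : PicF.IsInvertible (CohB1.tensorMod ((Scheme.Modules.pullback b).obj N)
      (ClSub.idealMod (exceptional b (W4c2seshadripos.pointIdeal x hx) ^ m))) :=
    Fdesc.LocGen.isInvertible_tensorMod (Fdesc.LocGen.isInvertible_pullback b hN) hEm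
  have hq := isQCoh_of_inv hF
  by_cases hs : s ∈ (W4c2seshadripos.pointIdeal x hx).support
  · obtain rfl := (mem_support_iff s).1 hs
    obtain ⟨U₁, e, hsU₁, -, -, he⟩ := Ega2.TensGen.exists_affine_gen hN s (V := ⊤) trivial
    obtain ⟨Λ, hΛ⟩ := S.exists_loc U₁ hsU₁
    let D := Λ.D
    refine ⟨Λ.U.1, Λ.hs, Λ.U.2, ?_⟩
    rcases Nat.lt_or_ge n 2 with h2 | h2
    · obtain rfl : n = 1 := by omega
      refine HU_one_of_sums D hq ?_
      obtain ⟨sU, sV, gU, gV, h⟩ := exists_gens_pow D m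
      have he' : IsGen (pullSec b (res N hΛ e)) := (he.res hΛ).pullSec b
      refine sums_of_gens D (m := m) (tmul (res _ D.hU (pullSec b (res N hΛ e))) sU)
        (tmul (res _ D.hV (pullSec b (res N hΛ e))) sV) ((he'.res D.hU).tmul gU) ?_
      rw [res_tmul, res_tmul, h, tmul_smul, res_res, res_res]
    · exact HU_of_two_le D hq n h2
  · obtain ⟨U, hsU, hU, hU', -⟩ := exists_affine_off S.hb hs
    obtain ⟨p, rfl⟩ : ∃ p, n = p + 1 := ⟨n - 1, by omega⟩
    exact ⟨U, hsU, hU, CohqA.AffVan.subsingleton_HU_of_isAffineOpen _ hU' p⟩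

/-- A function near `x` whose pull-back lies in `I^m` on the first chart lies in `m_x^m`. -/
theorem mem_pow (Λ : Loc b (W4c2seshadripos.pointIdeal x hx) x) (m : ℕ) (r : Γ(X, Λ.U.1))
    (h : ores Λ.D.hU (phi b Λ.U r) ∈ (exceptional b (W4c2seshadripos.pointIdeal x hx) ^ m).ideal Λ.D.U) :
    r ∈ (W4c2seshadripos.pointIdeal x hx ^ m).ideal Λ.U := by
  rw [pow_ideal, Λ.crd.ideal]
  have h1 : (exceptional b (W4c2seshadripos.pointIdeal x hx) ^ m).ideal Λ.D.U =
      Ideal.span {ores Λ.D.hU (phi b Λ.U Λ.x) ^ m} := by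
    rw [pow_ideal]
    refine (congrArg (· ^ m) Λ.D.idU).trans ?_
    exact Ideal.span_singleton_pow _ _
  rw [h1, Ideal.mem_span_singleton] at h
  exact mem_pow_of_dvd ((ores Λ.D.hU).comp (phi b Λ.U)) Λ.rp Λ.D.ht Λ.inj Λ.D.nzU Λ.D.genU m r h

/-- Functions on the preimage of the coordinate neighbourhood. -/
theorem bijective_app_loc [IsIntegral X] [IsIntegral Y] (Λ : Loc b (W4c2seshadripos.pointIdeal x hx) x) :
    Function.Bijective (b.app Λ.U.1) := by
  have : Nonempty Λ.U.1 := ⟨⟨x, Λ.hs⟩⟩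
  refine (Krr.H470.BlowAff.affine_case b _ Λ.U S.hb ⟨x, Λ.hs⟩ ![Λ.x, Λ.y] (by norm_num) ?_ ?_ ?_).2
  · rw [Λ.crd.ideal]
    congr 1
    simp [Set.pair_comm]
  · intro k
    fin_cases k
    · exact nonZeroDivisors.ne_zero Λ.crd.nx
    · exact nonZeroDivisors.ne_zero Λ.crd.ny
  · have h1 : List.ofFn ![Λ.x, Λ.y] = [Λ.x, Λ.y] := by simp
    rw [h1]
    exact isWeaklyRegular_of_rp Λ.rp

theorem isIso_restrict_compl : IsIso (b ∣_ (W4c2seshadripos.pointIdeal x hx).support.compl) :=
  Divis.BlowUpFormal.isIso_morphismRestrict_compl_support S.hb (W4c2seshadripos.pointIdeal x hx).support.compl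
    disjoint_compl_left

/-- **The direct image of the powers of the exceptional ideal.** -/
theorem nonempty_push [IsIntegral X] [IsIntegral Y] (m : ℕ) : Nonempty
    (ClSub.idealMod (W4c2seshadripos.pointIdeal x hx ^ m) ≅
      (Scheme.Modules.pushforward b).obj
        (ClSub.idealMod (exceptional b (W4c2seshadripos.pointIdeal x hx) ^ m))) := by
  have hc : (W4c2seshadripos.pointIdeal x hx ^ m).comap b =
      exceptional b (W4c2seshadripos.pointIdeal x hx) ^ m := Divis.IdealComap.comap_pow _ b m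
  rw [← hc]
  obtain ⟨φ, hφ⟩ := K470.BlowProj.exists_pull b (W4c2seshadripos.pointIdeal x hx ^ m)
  have : IsIso φ := by
    refine Sga67.LocBasis.isIso_of_bijective φ fun y U hy => ?_
    by_cases hs : y ∈ (W4c2seshadripos.pointIdeal x hx).support
    · obtain rfl := (mem_support_iff y).1 hs
      obtain ⟨Λ, hΛ⟩ := S.exists_loc U hy
      have hbij := S.bijective_app_loc Λ
      refine ⟨Λ.U.1, hΛ, Λ.hs, fun s t hst => ?_, fun t => ?_⟩
      · apply val_injective
        apply hbij.1
        rw [← hφ, ← hφ]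
        exact congrArg _ hst
      · obtain ⟨r, hr⟩ := hbij.2 (val ((W4c2seshadripos.pointIdeal y hx ^ m).comap b) (U := b ⁻¹ᵁ Λ.U.1) t)
        have h1 : r ∈ (W4c2seshadripos.pointIdeal y hx ^ m).ideal Λ.U := by
          refine S.mem_pow Λ m r ?_
          have h2 : ores Λ.D.hU (phi b Λ.U r) =
              val ((W4c2seshadripos.pointIdeal y hx ^ m).comap b) (res _ Λ.D.hU t) := by
            rw [val_res, ← hr]
          rw [h2, ← hc]
          exact val_mem _ _ _
        obtain ⟨s, hs'⟩ := exists_val_eq _ Λ.U h1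
        refine ⟨s, ?_⟩
        apply val_injective
        exact (hφ _ s).trans ((congrArg (fun z => b.app Λ.U.1 z) hs').trans hr)
    · have hyc : y ∈ U ⊓ (W4c2seshadripos.pointIdeal x hx).support.compl := ⟨hy, hs⟩
      obtain ⟨V, hV, hyV, hle⟩ := exists_isAffineOpen_mem_and_subset hyc
      have hle' : V ≤ (W4c2seshadripos.pointIdeal x hx).support.compl := hle.trans inf_le_right
      have h0 := Dix.Descend515.isIso_app_of_le b _ S.isIso_restrict_compl V hle'
      have hbij : Function.Bijective (b.app V) := ConcreteCategory.bijective_of_isIso (b.app V)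
      have htop : (W4c2seshadripos.pointIdeal x hx ^ m).ideal ⟨V, hV⟩ = ⊤ := by
        rw [pow_ideal, Flat2C.Admissible.ideal_eq_top_of_disjoint _ ⟨V, hV⟩
          (Set.disjoint_left.2 fun z hz hzV => hle' hzV hz), Ideal.top_pow]
      refine ⟨V, hle.trans inf_le_left, hyV, fun s t hst => ?_, fun t => ?_⟩
      · apply val_injective
        apply hbij.1
        rw [← hφ, ← hφ]
        exact congrArg _ hst
      · obtain ⟨r, hr⟩ := hbij.2 (val ((W4c2seshadripos.pointIdeal x hx ^ m).comap b) (U := b ⁻¹ᵁ V) t)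
        obtain ⟨s, hs'⟩ := exists_val_eq (W4c2seshadripos.pointIdeal x hx ^ m) ⟨V, hV⟩ (a := r)
          (by rw [htop]; trivial)
        refine ⟨s, ?_⟩
        apply val_injective
        exact (hφ _ s).trans ((congrArg (fun z => b.app V z) hs').trans hr)
  exact ⟨asIso φ⟩

/-- `b_* (b^* N ⊗ I^m) ≅ N ⊗ m_x^m`. -/
theorem nonempty_push_twist [IsIntegral X] [IsIntegral Y] {N : X.Modules} (hN : PicF.IsInvertible N) (m : ℕ) :
    Nonempty (CohB1.tensorMod N (ClSub.idealMod (W4c2seshadripos.pointIdeal x hx ^ m)) ≅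
      (Scheme.Modules.pushforward b).obj (CohB1.tensorMod ((Scheme.Modules.pullback b).obj N)
        (ClSub.idealMod (exceptional b (W4c2seshadripos.pointIdeal x hx) ^ m)))) := by
  obtain ⟨e⟩ := S.nonempty_push m
  have hB : VarietyB.TensCoh.HasBases N := VarietyB.TensCoh.HasBases.of_isFinLocFree
    (Ega2.QCohLocal.isFinLocFree_of_rank (Ega2.QCohLocal.isFinLocFreeOfRank_one_iff.mpr hN))
  exact ⟨Ega2.Tens.mapTIso (Iso.refl N) e ≪≫ VarietyB.ProjForm.projIso b hB _⟩

/-- **Cohomology of `b^* N ⊗ I^m`.** -/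
theorem nonempty_equiv [IsIntegral X] [IsIntegral Y] {N : X.Modules} (hN : PicF.IsInvertible N) (m : ℕ)
    (A : Type u) [CommRing A] [X.Over (Spec (CommRingCat.of A))] [Y.Over (Spec (CommRingCat.of A))]
    (hb : b ≫ (X ↘ Spec (CommRingCat.of A)) = Y ↘ Spec (CommRingCat.of A)) (p : ℕ) :
    Nonempty (Coh.HH Y (CohB1.tensorMod ((Scheme.Modules.pullback b).obj N)
        (ClSub.idealMod (exceptional b (W4c2seshadripos.pointIdeal x hx) ^ m))) p ≃ₗ[A]
      Coh.HH X (CohB1.tensorMod N (ClSub.idealMod (W4c2seshadripos.pointIdeal x hx ^ m))) p) := by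
  have hEm : PicF.IsInvertible (ClSub.idealMod (exceptional b (W4c2seshadripos.pointIdeal x hx) ^ m)) :=
    isInvertible_idealMod (Divis.EffCartier.isEff_pow S.hb.1 m)
  obtain ⟨e⟩ := K805.Leray.nonempty_equiv S.setup (isQCoh_of_inv (Fdesc.LocGen.isInvertible_tensorMod
    (Fdesc.LocGen.isInvertible_pullback b hN) hEm)) (fun n hn s => S.HU hN m n hn s) A hb p
  obtain ⟨e'⟩ := S.nonempty_push_twist hN m
  exact ⟨e.trans (Fga.PicMon.hmapEquiv A X e'.symm p)⟩

end PtBlow

end K671.BlowPow
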