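import Groth.Agent.AdjLin.K671.BlowPow
import Groth.Agent.Surf.K455.BlowCanon
import Groth.Agent.Surf.K455.ResOne
import Groth.Agent.Lefpen.H709.Geo
import Groth.Agent.AdjLin.K801.SmDim
import Groth.Agent.AdjLin.K800.Setup
import Groth.Agent.Sga67.BlowAmple
import Groth.Agent.Sga2.ThickCoh
import Groth.Agent.Ega2.BlowBasic
import Groth.Agent.Variety.K420.IntPush

/-!
# The blow-up of a closed point of a smooth projective surface over an algebraically closed field

`f : Y ⟶ X` the blow-up of the closed point `x`, `I = m_x O_Y`.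
* `proper`, `smooth`, `isIntegral`, `dim_eq`, `exists_ample`: `Y` is again a smooth projective surface.
* `mc_canon`: `ω_Y ⊗ I ≅ f^* ω_X`.
* `nonempty_adjoint`: `H^i(Y, I^(r+1) ⊗ (f^* L ⊗ ω_Y)) ≃ H^i(X, m_x^r ⊗ (L ⊗ ω_X))`, `r ≥ 0`.
-/

set_option autoImplicit false
universe u
open CategoryTheory CategoryTheory.Limits AlgebraicGeometry Opposite TopologicalSpace BlowUp

namespace K671.BlowSurf

open Groth.Agent K671.BlowPow Groth.Agent.Fga.PicMon Groth.Agent.Dix.PointIdeal

theorem ker_eq_vanishingIdeal {Z X : Scheme.{u}} (f : Z ⟶ X) [IsReduced Z] :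
    f.ker = Scheme.IdealSheafData.vanishingIdeal ⟨closure (Set.range f), isClosed_closure⟩ := by
  have h1 := Scheme.IdealSheafData.map_vanishingIdeal f ⊤
  rw [Scheme.IdealSheafData.vanishingIdeal_top, Scheme.nilradical_eq_bot,
    Scheme.IdealSheafData.map_bot] at h1
  rw [h1]
  congr 1
  ext x
  simp [TopologicalSpace.Closeds.closure]

/-- The ideal of a rational point. -/
theorem smooth_pt (K : Type u) [Field K] [IsAlgClosed K] {X : Scheme.{u}} (p : X ⟶ Spec (CommRingCat.of K))
    [LocallyOfFiniteType p] [IsSeparated p] (x : X) (hx : IsClosed ({x} : Set X)) :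
    SmoothOfRelativeDimension 0 ((W4c2seshadripos.pointIdeal x hx).subschemeι ≫ p) := by
  let t : Spec (CommRingCat.of K) ⟶ X := pointOfClosedPoint p x hx
  have ht : t ≫ p = 𝟙 _ := pointOfClosedPoint_comp p x hx
  have hta : ∀ z, t z = x := fun z => pointOfClosedPoint_apply p x hx z
  let c₀ : (Spec (CommRingCat.of K) : Scheme.{u}) := IsLocalRing.closedPoint K
  have hrt : Set.range t = {x} := by
    ext y
    constructor
    · rintro ⟨z, rfl⟩
      exact hta z
    · rintro rfl
      exact ⟨c₀, hta _⟩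
  have hci : IsClosedImmersion t := by
    have : IsClosedImmersion (t ≫ p) := by rw [ht]; infer_instance
    exact IsClosedImmersion.of_comp t p
  have hker : t.ker = W4c2seshadripos.pointIdeal x hx := by
    rw [ker_eq_vanishingIdeal t]
    unfold W4c2seshadripos.pointIdeal
    congr 1
    ext y
    change y ∈ closure (Set.range t) ↔ y ∈ ({x} : Set X)
    rw [hrt, hx.closure_eq]
  rw [← hker]
  have h1 : t.ker.subschemeι = inv t.toImage ≫ t := by
    rw [IsIso.eq_inv_comp]
    exact t.toImage_imageι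
  rw [h1, Category.assoc, ht, Category.comp_id]
  infer_instance

section

variable (k : Type u) [Field k] [IsAlgClosed k] {X Y : Scheme.{u}} [X.Over (Spec (CommRingCat.of k))]
  [Y.Over (Spec (CommRingCat.of k))] [IsProper (X ↘ Spec (CommRingCat.of k))]
  [Smooth (X ↘ Spec (CommRingCat.of k))] [IsIntegral X] (hdim : topologicalKrullDim X = 2)
  {x : X} {hx : IsClosed ({x} : Set X)} {f : Y ⟶ X}
  (hf : f ≫ (X ↘ Spec (CommRingCat.of k)) = Y ↘ Spec (CommRingCat.of k))
  (hbl : BlowUp.IsBlowUp f (W4c2seshadripos.pointIdeal x hx))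

include k hdim hbl in
omit [Y.Over (Spec (CommRingCat.of k))] in
theorem ptBlow : PtBlow f x hx where
  noeth := LocallyOfFiniteType.isLocallyNoetherian (X ↘ Spec (CommRingCat.of k))
  hb := hbl
  reg := S1535.result k X x
  dim := (Fga.DimCut.ringKrullDim_stalk_eq k X x hx).trans hdim

include k hdim hf hbl in
theorem proper : IsProper (Y ↘ Spec (CommRingCat.of k)) := by
  have := (ptBlow k hdim hbl).isProper
  rw [← hf]
  infer_instance

include k hdim hf hbl in
theorem smooth : SmoothOfRelativeDimension 2 (Y ↘ Spec (CommRingCat.of k)) := by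
  have h1 : SmoothOfRelativeDimension (0 + (1 + 1)) (X ↘ Spec (CommRingCat.of k)) :=
    K801.SmDim.relDim_of_smooth k X 2 hdim
  have h0 := smooth_pt k (X ↘ Spec (CommRingCat.of k)) x hx
  have h2 := Lefpen.H709.Geo.smooth_blowUp (X ↘ Spec (CommRingCat.of k)) _ 0 1 h1 h0 hbl
  rwa [hf] at h2

include k hdim hbl in
omit [Y.Over (Spec (CommRingCat.of k))] in
theorem genericPoint_ne : genericPoint X ≠ x := by
  intro h
  have h1 := (ptBlow k hdim hbl).dim
  rw [← h] at h1
  have h2 : ringKrullDim (X.presheaf.stalk (genericPoint X)) = 0 := ringKrullDim_eq_zero_of_field X.functionField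
  rw [h2] at h1
  exact absurd h1 (by norm_num)

include k hdim hbl in
omit [Y.Over (Spec (CommRingCat.of k))] in
theorem isIntegral : IsIntegral Y := by
  have hiso := (ptBlow k hdim hbl).isIso_restrict_compl
  let V := (W4c2seshadripos.pointIdeal x hx).support.compl
  have hV : Nonempty (V : Scheme.{u}) := ⟨⟨genericPoint X, fun h =>
    genericPoint_ne k hdim hbl ((mem_support_iff _).1 h)⟩⟩
  have h3 : IsIntegral (V : Scheme.{u}) := inferInstance
  have : Nonempty (f ⁻¹ᵁ V : Scheme.{u}) := ⟨(inv (f ∣_ V)) (Classical.arbitrary _)⟩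
  have h4 : IsIntegral (f ⁻¹ᵁ V : Scheme.{u}) := isIntegral_of_isOpenImmersion (f ∣_ V)
  have h5 : Ega2.BlowBasic.offSupport (BlowUp.exceptional f (W4c2seshadripos.pointIdeal x hx)) = f ⁻¹ᵁ V := by
    ext y
    change y ∉ ((W4c2seshadripos.pointIdeal x hx).comap f).support ↔ f y ∉ (W4c2seshadripos.pointIdeal x hx).support
    rw [Scheme.IdealSheafData.support_comap]
    rfl
  have h6 : IsIntegral (Ega2.BlowBasic.offSupport
      (BlowUp.exceptional f (W4c2seshadripos.pointIdeal x hx)) : Scheme.{u}) := by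
    rw [h5]; exact h4
  exact Ega2.BlowBasic.isIntegral_of_offSupport hbl.1

include k hdim hf hbl in
theorem dim_eq : topologicalKrullDim Y = 2 := by
  have := smooth k hdim hf hbl
  have := isIntegral k hdim hbl
  exact K800.Setup.topologicalKrullDim_eq k (Y ↘ Spec (CommRingCat.of k)) 2

include k hdim hbl in
omit [Y.Over (Spec (CommRingCat.of k))] in
theorem exists_ample (H : X.Modules) (hH : CohB1.IsAmple H) : ∃ M : Y.Modules, CohB1.IsAmple M := by
  have := (ptBlow k hdim hbl).isProper
  exact Sga67.BlowAmple.exists_isAmple hbl H hH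

omit [IsAlgClosed k] [X.Over (Spec (CommRingCat.of k))] [Y.Over (Spec (CommRingCat.of k))]
  [IsProper (X ↘ Spec (CommRingCat.of k))] [Smooth (X ↘ Spec (CommRingCat.of k))] [IsIntegral X] in
include hbl in
theorem isInv_exc : PicF.IsInvertible (ClSub.idealMod (BlowUp.exceptional f (W4c2seshadripos.pointIdeal x hx))) :=
  Dix.IdealModCartier.isInvertible_idealMod hbl.1

include hbl in
theorem mc_exc_pow (m : ℕ) : mc (ClSub.idealMod (BlowUp.exceptional f (W4c2seshadripos.pointIdeal x hx) ^ m)) =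
    mc (ClSub.idealMod (BlowUp.exceptional f (W4c2seshadripos.pointIdeal x hx))) ^ m := by
  rw [← mc_tensorPow]
  exact ((mc_eq_iff _ _).2 (Sga2.ThickCoh.idealMod_pow hbl.1 m)).symm

include k hdim hf hbl in
/-- The canonical module of the blow-up. -/
theorem mc_canon {ωX : X.Modules} {ωY : Y.Modules}
    (hωX : ExtPow.IsExtPow 2 (Omega.sheaf (X ↘ (Spec (CommRingCat.of k)))) ωX)
    (hωY : ExtPow.IsExtPow 2 (Omega.sheaf (Y ↘ (Spec (CommRingCat.of k)))) ωY) :
    mc ωY * mc (ClSub.idealMod (BlowUp.exceptional f (W4c2seshadripos.pointIdeal x hx))) =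
      mc ((Scheme.Modules.pullback f).obj ωX) := by
  have := proper k hdim hf hbl
  have := smooth k hdim hf hbl
  have := isIntegral k hdim hbl
  have h1 : SmoothOfRelativeDimension 2 (X ↘ Spec (CommRingCat.of k)) := K801.SmDim.relDim_of_smooth k X 2 hdim
  have hS := ptBlow k hdim hbl
  have := hS.noeth
  have := hS.reg
  refine K455.BlowCanon.mc_eq k f hf x hx hS.dim hbl (dim_eq k hdim hf hbl).le hωY hωX ?_
  letI : Algebra k (X.residueField x) := Curv2.resAlgebra k X x
  have h6 : Module.finrank k (X.residueField x) = 1 := K455.ResOne.finrank_residueField k X hx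
  rw [h6]
  norm_num

include k hdim hf hbl in
/-- The adjoint cohomology on the blow-up. -/
theorem nonempty_adjoint {ωX : X.Modules} {ωY : Y.Modules}
    (hωX : ExtPow.IsExtPow 2 (Omega.sheaf (X ↘ (Spec (CommRingCat.of k)))) ωX)
    (hωY : ExtPow.IsExtPow 2 (Omega.sheaf (Y ↘ (Spec (CommRingCat.of k)))) ωY)
    {L : X.Modules} (hL : PicF.IsInvertible L) (r i : ℕ) :
    Nonempty (Coh.HH Y (CohB1.tensorMod
        (ClSub.idealMod ((BlowUp.exceptional f (W4c2seshadripos.pointIdeal x hx)) ^ (r + 1)))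
        (CohB1.tensorMod ((Scheme.Modules.pullback f).obj L) ωY)) i ≃ₗ[k]
      Coh.HH X (CohB1.tensorMod (ClSub.idealMod ((W4c2seshadripos.pointIdeal x hx) ^ r))
        (CohB1.tensorMod L ωX)) i) := by
  have := isIntegral k hdim hbl
  have h1 : SmoothOfRelativeDimension 2 (X ↘ Spec (CommRingCat.of k)) := K801.SmDim.relDim_of_smooth k X 2 hdim
  have hω := K455.Canon.isInvertible (X ↘ Spec (CommRingCat.of k)) 2 hωX
  have hN : PicF.IsInvertible (CohB1.tensorMod L ωX) := Fdesc.LocGen.isInvertible_tensorMod hL hω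
  have hmc : mc (CohB1.tensorMod
      (ClSub.idealMod ((BlowUp.exceptional f (W4c2seshadripos.pointIdeal x hx)) ^ (r + 1)))
      (CohB1.tensorMod ((Scheme.Modules.pullback f).obj L) ωY)) =
      mc (CohB1.tensorMod ((Scheme.Modules.pullback f).obj (CohB1.tensorMod L ωX))
        (ClSub.idealMod ((BlowUp.exceptional f (W4c2seshadripos.pointIdeal x hx)) ^ r))) := by
    rw [mc_tensor, mc_tensor, mc_tensor, K420.IntPush.mc_pullback_tensor f hL hω, mc_exc_pow hbl, mc_exc_pow hbl,
      ← mc_canon k hdim hf hbl hωX hωY, pow_succ]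
    ac_rfl
  obtain ⟨e⟩ := (mc_eq_iff _ _).1 hmc
  obtain ⟨e2⟩ := (ptBlow k hdim hbl).nonempty_equiv hN r k hf i
  exact ⟨(hmapEquiv k Y e i).trans (e2.trans (hmapEquiv k X (Ega2.Tens.swap _ _) i))⟩

end

end K671.BlowSurf
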