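import Groth.Agent.S19800
import Groth.Agent.ArSurf.K480.GGCurve
import Groth.Agent.Sga2lef.H24.ToPn
import Groth.Agent.Ega2.AmpleVery
import Groth.Agent.Dix.InterSurf
import Groth.Agent.CohqA.ProjDim
import Groth.Agent.SDiv.K476.RegRef
import Groth.Agent.Surf.K464.RatConf

/-!
# Integral curves in multiples of an ample class on a smooth projective surface

`exists_curve`: some power of an ample module is the inverse of the ideal of an integral curve.
-/

set_option autoImplicit false
universe u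
open CategoryTheory CategoryTheory.Limits AlgebraicGeometry TopologicalSpace

namespace K671.GammaEx

open Groth.Agent Groth.Agent.Grpsch.PicGrp K464.Base K464.Curves K464.DivLat Groth.Agent.Dix.IdealModCartier

variable (k : Type u) [Field k] {X : Scheme.{u}} [X.Over (Spec (CommRingCat.of k))]
  [IsProper (X ↘ Spec (CommRingCat.of k))] [IsIntegral X] (hdim : topologicalKrullDim X = 2)

include k hdim in
theorem isCurve_of_integral [Smooth (X ↘ Spec (CommRingCat.of k))] {Γ : X.IdealSheafData}
    (hi : IsIntegral Γ.subscheme) (hE : BlowUp.IsEffCartierIdeal Γ) : IsCurve Γ := by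
  have hnoeth : IsNoetherian X := Fga.IntAdd.isNoetherian k X
  obtain ⟨r, C, n, hC, hinj, hn, hcyc⟩ := K464.Comp.exists_eq_cyc k (X ↘ Spec (CommRingCat.of k)) hdim
    (fun x => S1535.result k X x) Γ hE
  refine ⟨hi, le_antisymm ?_ ?_⟩
  · rw [hcyc]
    exact K464.RatConf.dim_support_cyc hC n
  · have hr : r ≠ 0 := by
      rintro rfl
      have h1 : Γ = ⊤ := by
        rw [hcyc]
        unfold cyc
        rw [Finset.univ_eq_empty, Finset.prod_empty]
        rfl
      obtain ⟨z⟩ : Nonempty Γ.subscheme := inferInstance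
      have h2 : Γ.subschemeι z ∈ Γ.support := by
        have : Γ.subschemeι z ∈ Set.range Γ.subschemeι := ⟨z, rfl⟩
        rwa [Scheme.IdealSheafData.range_subschemeι] at this
      obtain ⟨w, hw⟩ : ∃ w, w ∈ Γ.support := ⟨_, h2⟩
      rw [h1, Scheme.IdealSheafData.support_top] at hw
      exact hw
    let i : Fin r := ⟨0, Nat.pos_of_ne_zero hr⟩
    have h1 : Γ ≤ C i := by
      rw [hcyc]
      unfold cyc
      rw [← Finset.mul_prod_erase Finset.univ _ (Finset.mem_univ i)]
      refine (mul_le_left _ _).trans ?_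
      obtain ⟨a, ha⟩ := Nat.exists_eq_succ_of_ne_zero (hn i).ne'
      rw [ha, pow_succ']
      exact mul_le_left _ _
    have h2 : ((C i).support : Set X) ⊆ Γ.support := Scheme.IdealSheafData.support_antitone h1
    rw [← (hC i).dim]
    exact (Topology.IsEmbedding.inclusion h2).isInducing.topologicalKrullDim_le

variable [IsAlgClosed k] [Smooth (X ↘ Spec (CommRingCat.of k))]

include k hdim in
/-- **Integral curves in multiples of an ample class.** -/
theorem exists_curve {B : X.Modules} (hB : CohB1.IsAmple B) :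
    ∃ (b : ℕ) (Γ : X.IdealSheafData) (_ : IsCurve Γ) (hE : BlowUp.IsEffCartierIdeal Γ), 1 ≤ b ∧
      (ic Γ hE)⁻¹ = mk B hB.1 ^ b := by
  obtain ⟨n₀, h⟩ := Ega2.AmpleVery.exists_forall_isRelVeryAmplePn (X ↘ Spec (CommRingCat.of k)) hB
  obtain ⟨r, j, hj, -, ⟨e⟩⟩ := Sga2lef.H24.ToPn.exists_closedImmersion (X ↘ Spec (CommRingCat.of k)) _
    (h (n₀ + 1) (Nat.le_succ n₀))
  have hnorm : Pi1.IsNormalScheme X := K476.RegRef.isNormalScheme_of_regular fun x => S1535.result k X x
  obtain ⟨s, ⟨x, hx⟩, hint⟩ := S19800.result k r X hnorm 2 hdim le_rfl j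
  have hO : PicF.IsInvertible (Twist.twistProjSpace r k 1) := PerfB.TwistDer.isInvertible_tw r k 1
  have hs : s ≠ 0 := by
    rintro rfl
    refine hx ?_
    obtain ⟨U, e', hxU, -, hU, he⟩ := Ega2.TensGen.exists_affine_gen hO (j x) (V := ⊤) trivial
    have h0 : Fdesc.LocGen.sec (0 : Coh.structureModule (CohB1.ProjSpace r k) ⟶ Twist.twistProjSpace r k 1) U =
        (0 : Γ(CohB1.ProjSpace r k, U)) • e' := by
      rw [zero_smul]
      simp [Fdesc.LocGen.sec]
    have h1 := Pi1C.ZeroScheme.ideal_eq_span (0 : Coh.structureModule (CohB1.ProjSpace r k) ⟶ Twist.twistProjSpace r k 1)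
      hO ⟨U, hU⟩ he h0
    rw [Scheme.IdealSheafData.mem_support_iff_of_mem (U := ⟨U, hU⟩) hxU, h1, Scheme.zeroLocus_span,
      Scheme.mem_zeroLocus_iff]
    simp
  obtain ⟨hZ, hZinv⟩ := K480.GGCurve.isInverseOf_zeroScheme hO s hs
  have hgen : j (genericPoint X) ∉ (PicF2.zeroScheme (Twist.twistProjSpace r k 1) s).support := fun h =>
    hx (((genericPoint_specializes x).map j.continuous).mem_closed
      (PicF2.zeroScheme (Twist.twistProjSpace r k 1) s).support.2 h)
  have hE : BlowUp.IsEffCartierIdeal ((PicF2.zeroScheme (Twist.twistProjSpace r k 1) s).comap j) :=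
    Dix.InterSurf.isEff_comap_of_generic j hZ hgen
  have hi : IsIntegral ((PicF2.zeroScheme (Twist.twistProjSpace r k 1) s).comap j).subscheme := by
    have e1 := Scheme.IdealSheafData.comapIso (PicF2.zeroScheme (Twist.twistProjSpace r k 1) s) j
    have : Nonempty ((PicF2.zeroScheme (Twist.twistProjSpace r k 1) s).comap j).subscheme :=
      Nonempty.map e1.inv inferInstance
    exact isIntegral_of_isOpenImmersion e1.hom
  refine ⟨n₀ + 1, _, isCurve_of_integral k hdim hi hE, hE, Nat.succ_pos _, ?_⟩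
  have h1 : mk B hB.1 ^ (n₀ + 1) = pull j (mk _ hO) := by
    rw [← mk_tensorPow hB.1]
    exact (mk_eq_iff _ _).2 ⟨e⟩
  have h2 : pull j (ic _ hZ) = ic _ hE := by
    obtain ⟨e2⟩ := pullback_idealMod j hZ hE
    exact (mk_eq_iff _ _).2 ⟨e2⟩
  rw [h1, mk_eq_ic_inv hZinv hO hZ, map_inv, h2]

end K671.GammaEx
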