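import Groth.Agent.LocPos.K924.IdealTens
import Groth.Agent.Surf.K465.Eff
import Groth.Agent.CurvesB.SepLift
import Groth.Agent.CurvesB.HZero
import Groth.Agent.FormalA.HHLin

/-!
# Sections of an invertible module vanishing along an ideal

`X` integral, `M` invertible.
* `IsDiv σ D`: `D` is the divisor of zeros of the section `σ`; `exists_isDiv`.
* `pr_eq_zero_iff`: `σ` is a section of `J ⊗ M` iff its coefficients lie in `J`; `IsDiv.pr_eq_zero_iff`: iff `D ≤ J`.
* `W k M J`: the subspace of `H^0(X, M)` of the sections vanishing along `J`; `finrank_W`.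
-/

set_option autoImplicit false
universe u
open CategoryTheory CategoryTheory.Limits AlgebraicGeometry Opposite TopologicalSpace

namespace K671.SecDiv

open Groth.Agent Groth.Agent.Grpsch.PicGrp K464.Base K464.Curves Groth.Agent.CurvesB.SepLift
open Groth.Agent.Fdesc.LocGen Groth.Agent.Dix.IdealModCartier Groth.Agent.Divis.CartierBasic

section

variable {X : Scheme.{u}} {M : X.Modules}

/-- `D` is the divisor of zeros of `σ`. -/
structure IsDiv (σ : Γ(M, ⊤)) (D : X.IdealSheafData) : Prop where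
  eff : BlowUp.IsEffCartierIdeal D
  inv : ClSub.IsInverseOf M (ClSub.idealMod D)
  loc : ∀ (U : X.affineOpens) (e : Γ(M, U.1)) (a : Γ(X, U.1)), IsGen e → res M le_top σ = a • e →
    D.ideal U = Ideal.span {a}

theorem exists_isDiv [IsIntegral X] (hM : PicF.IsInvertible M) (σ : Γ(M, ⊤)) (hs : σ ≠ 0) :
    ∃ D : X.IdealSheafData, IsDiv σ D := by
  obtain ⟨D, hD, hinv, h⟩ := Models.H38.SecDiv.exists_divisor hM σ (by
    intro V e a he hae
    by_cases hV : (V.1 : Set X).Nonempty
    · have hnz : a ≠ 0 := by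
        rintro rfl
        rw [zero_smul] at hae
        exact hs (CurvesC.InvSec.eq_zero_of_res_eq_zero hM le_top hV σ hae)
      have : Nonempty V.1 := hV.to_subtype
      exact mem_nonZeroDivisors_of_ne_zero hnz
    · have hb : V.1 = ⊥ := by
        rw [← TopologicalSpace.Opens.coe_eq_empty]
        exact Set.not_nonempty_iff_eq_empty.1 hV
      have : Subsingleton Γ(X, V.1) := by
        rw [hb]
        exact inferInstanceAs (Subsingleton Γ(X, ⊥))
      rw [Subsingleton.elim a 1]
      exact one_mem _)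
  exact ⟨D, hD, hinv, h⟩

/-- The class of the divisor of zeros. -/
theorem IsDiv.class {σ : Γ(M, ⊤)} {D : X.IdealSheafData} (h : IsDiv σ D) (hM : PicF.IsInvertible M) :
    Grpsch.PicGrp.mk M hM = (ic D h.eff)⁻¹ := mk_eq_ic_inv h.inv hM h.eff

/-- `σ` is a section of `J ⊗ M` iff its coefficients lie in `J`. -/
theorem pr_eq_zero_iff (hM : PicF.IsInvertible M) (J : X.IdealSheafData) (σ : Γ(M, ⊤)) :
    (pr J M).app ⊤ σ = 0 ↔ ∀ (U : X.affineOpens) (e : Γ(M, U.1)) (a : Γ(X, U.1)), IsGen e →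
      res M le_top σ = a • e → a ∈ J.ideal U := by
  constructor
  · intro h U e a he hae
    have h1 : (pr J M).app U.1 (res M le_top σ) = 0 := by
      rw [app_res, h, map_zero]
    have h2 := exists_coeff_of_pr_eq_zero J hM he (res M le_top σ) h1 a hae
    rw [← Scheme.IdealSheafData.ker_subschemeι_app]
    exact h2
  · intro h
    refine Ega2.Tens.eq_of_locally_eq _ _ _ fun x hx => ?_
    obtain ⟨V, e, hxV, hVU, hV, he⟩ := Ega2.TensGen.exists_affine_gen hM x hx
    refine ⟨V, homOfLE hVU, hxV, ?_⟩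
    obtain ⟨a, ha⟩ := he.exists_eq (res M le_top σ)
    have h1 := h ⟨V, hV⟩ e a he ha
    rw [← Scheme.IdealSheafData.ker_subschemeι_app] at h1
    have h2 := pr_eq_zero_of_coeff J e a h1
    change res _ le_top ((pr J M).app ⊤ σ) = res _ le_top 0
    rw [map_zero, ← app_res, ha]
    exact h2

theorem IsDiv.pr_eq_zero_iff {σ : Γ(M, ⊤)} {D : X.IdealSheafData} (h : IsDiv σ D) (hM : PicF.IsInvertible M)
    (J : X.IdealSheafData) : (pr J M).app ⊤ σ = 0 ↔ D ≤ J := by
  rw [K671.SecDiv.pr_eq_zero_iff hM]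
  constructor
  · intro h1
    refine le_of_stalkIdeal fun x => ?_
    obtain ⟨V, e, hxV, hVU, hV, he⟩ := Ega2.TensGen.exists_affine_gen hM x (V := ⊤) trivial
    obtain ⟨a, ha⟩ := he.exists_eq (res M le_top σ)
    rw [stalkIdeal_eq D ⟨V, hV⟩ hxV, stalkIdeal_eq J ⟨V, hV⟩ hxV, h.loc ⟨V, hV⟩ e a he ha]
    refine Ideal.map_mono ?_
    rw [Ideal.span_singleton_le_iff_mem]
    exact h1 ⟨V, hV⟩ e a he ha
  · intro h1 U e a he ha
    refine h1 U ?_
    rw [h.loc U e a he ha]
    exact Ideal.mem_span_singleton_self a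

end

section lin

variable (k : Type u) [Field k] {X : Scheme.{u}} [X.Over (Spec (CommRingCat.of k))] (M : X.Modules)

/-- The sections of `M` vanishing along `J`. -/
noncomputable def W (J : X.IdealSheafData) : Submodule k (Coh.HH X M 0) where
  carrier := {σ | (pr J M).app ⊤ (CurvesB.HZero.equivAdd M σ) = 0}
  add_mem' {σ τ} hσ hτ := by
    change (pr J M).app ⊤ (CurvesB.HZero.equivAdd M (σ + τ)) = 0
    rw [map_add, map_add]
    have h1 : (pr J M).app ⊤ (CurvesB.HZero.equivAdd M σ) = 0 := hσ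
    have h2 : (pr J M).app ⊤ (CurvesB.HZero.equivAdd M τ) = 0 := hτ
    rw [h1, h2, add_zero]
  zero_mem' := by
    change (pr J M).app ⊤ (CurvesB.HZero.equivAdd M 0) = 0
    rw [map_zero, map_zero]
  smul_mem' c σ hσ := by
    change (pr J M).app ⊤ (CurvesB.HZero.equivAdd M (c • σ)) = 0
    have h1 : (pr J M).app ⊤ (CurvesB.HZero.equivAdd M σ) = 0 := hσ
    rw [CurvesB.HZero.equivAdd_smul_over]
    have h2 : (pr J M).app ⊤ (CurvesB.HZero.gl k X c • CurvesB.HZero.equivAdd M σ) =
        CurvesB.HZero.gl k X c • (pr J M).app ⊤ (CurvesB.HZero.equivAdd M σ) :=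
      Scheme.Modules.Hom.app_smul _ _ _
    rw [h2, h1, smul_zero]

variable {k M}

theorem mem_W_iff {J : X.IdealSheafData} {σ : Coh.HH X M 0} :
    σ ∈ W k M J ↔ (pr J M).app ⊤ (CurvesB.HZero.equivAdd M σ) = 0 := Iff.rfl

theorem mem_W_iff_le {J D : X.IdealSheafData} {σ : Coh.HH X M 0} (hM : PicF.IsInvertible M)
    (h : IsDiv (CurvesB.HZero.equivAdd M σ) D) : σ ∈ W k M J ↔ D ≤ J := by
  rw [mem_W_iff, h.pr_eq_zero_iff hM]

/-- `W J ≅ H^0(X, J ⊗ M)`. -/
theorem finrank_W (hM : PicF.IsInvertible M) (J : X.IdealSheafData) :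
    Module.finrank k (W k M J) = Module.finrank k (Coh.HH X (CohB1.tensorMod (ClSub.idealMod J) M) 0) := by
  let f : Coh.HH X (CohB1.tensorMod (ClSub.idealMod J) M) 0 →ₗ[k] Coh.HH X M 0 := FormalA.HHLin.HHmap k (mu J M) 0
  have hf : ∀ t, CurvesB.HZero.equivAdd M (f t) = (mu J M).app ⊤ (CurvesB.HZero.equivAdd _ t) := fun t =>
    CurvesB.HZero.equivAdd_map (mu J M) t
  have hinj : Function.Injective f := by
    intro a b hab
    apply (CurvesB.HZero.equivAdd _).injective
    apply mu_injective J hM ⊤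
    rw [← hf, ← hf, hab]
  have hrange : LinearMap.range f = W k M J := by
    ext σ
    rw [mem_W_iff]
    constructor
    · rintro ⟨t, rfl⟩
      rw [hf]
      have := cokernel.condition (mu J M)
      exact congr(($this).app ⊤ (CurvesB.HZero.equivAdd _ t))
    · intro h
      obtain ⟨t, ht⟩ := exists_mu_of_pr_eq_zero J hM _ h
      refine ⟨(CurvesB.HZero.equivAdd _).symm t, ?_⟩
      apply (CurvesB.HZero.equivAdd M).injective
      rw [hf, AddEquiv.apply_symm_apply, ht]
  rw [← hrange]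
  exact (LinearEquiv.ofInjective f hinj).finrank_eq.symm

end lin

end K671.SecDiv
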