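import Groth.Agent.Surf.K464.Cohom
import Groth.Agent.Surf.K464.Comp
import Groth.Agent.VarietyA.CurveFin
import Groth.Agent.S1564
import Groth.Agent.AdjLin.K671.SecDiv

/-!
# An upper bound for the number of sections on a surface

`h0_up`: `Γ` an integral curve on a surface whose class is nef, `g = Γ² > 0`, `t = (M·Γ) ≥ 0`, then
`2 g h⁰(M) ≤ t² + 4 g t + 2 g`.
-/

set_option autoImplicit false
universe u
open CategoryTheory CategoryTheory.Limits AlgebraicGeometry TopologicalSpace

namespace K671.H0Up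

open Groth.Agent Groth.Agent.Grpsch.PicGrp K464.Base K464.Curves K464.DivLat K464.Cohom Groth.Agent.Dix.IdealModCartier

/-- Dimensions in an exact sequence. -/
theorem finrank_le_add (k : Type*) [Field k] {V₁ V₂ V₃ : Type*} [AddCommGroup V₁] [Module k V₁] [AddCommGroup V₂]
    [Module k V₂] [AddCommGroup V₃] [Module k V₃] [Module.Finite k V₁] [Module.Finite k V₂] [Module.Finite k V₃]
    (f : V₁ →ₗ[k] V₂) (g : V₂ →ₗ[k] V₃) (h : Function.Exact f g) :
    Module.finrank k V₂ ≤ Module.finrank k V₁ + Module.finrank k V₃ := by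
  have h1 := LinearMap.finrank_range_add_finrank_ker g
  have h2 : LinearMap.ker g = LinearMap.range f := by
    ext x
    exact h x
  rw [h2] at h1
  have h3 := LinearMap.finrank_range_le f
  have h4 := Submodule.finrank_le (LinearMap.range g)
  omega

variable (k : Type u) [Field k] {X : Scheme.{u}} [X.Over (Spec (CommRingCat.of k))]
  [IsProper (X ↘ Spec (CommRingCat.of k))]

theorem finite_HH_quot (D : X.IdealSheafData) {L : X.Modules} (hL : PicF.IsInvertible L) (i : ℕ) :
    Module.Finite k (Coh.HH X (CohB1.tensorMod (ClSub.quotMod D) L) i) := by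
  letI := overC k X D
  have := isProper_sub k X D
  have := Fga.HodgeSec.finite_HH k (Fdesc.LocGen.isInvertible_pullback D.subschemeι hL) i
  exact Module.Finite.equiv (hhSub k D hL i).symm

/-- `h⁰(L) ≤ h⁰(L(-D)) + h⁰(L|_D)`. -/
theorem h0_le_add {M : X.Modules} (hM : PicF.IsInvertible M) {D : X.IdealSheafData}
    (hD : BlowUp.IsEffCartierIdeal D) :
    Module.finrank k (Coh.HH X M 0) ≤ Module.finrank k (Coh.HH X (CohB1.tensorMod M (ClSub.idealMod D)) 0) +
      Module.finrank k (Coh.HH X (CohB1.tensorMod (ClSub.quotMod D) M) 0) := by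
  have hS := Fga.TwistCoh.shortExact_tensorBi hM _ (VarietyB.RestrSeq.idealSeq_shortExact D)
  have f1 : Module.Finite k (Coh.HH X (CohB1.tensorMod M (ClSub.idealMod D)) 0) :=
    Fga.HodgeSec.finite_HH k (Fdesc.LocGen.isInvertible_tensorMod hM (isInvertible_idealMod hD)) 0
  have f2 : Module.Finite k (Coh.HH X (CohB1.tensorMod M (Coh.structureModule X)) 0) :=
    Fga.HodgeSec.finite_HH k (Fdesc.LocGen.isInvertible_tensorMod hM Fdesc.LocGen.isInvertible_structureModule) 0
  have f3' := finite_HH_quot k D hM 0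
  have f3 : Module.Finite k (Coh.HH X (CohB1.tensorMod M (ClSub.quotMod D)) 0) :=
    Module.Finite.equiv (Fga.PicMon.hmapEquiv k X (Ega2.Tens.swap (ClSub.quotMod D) M) 0)
  have h := finrank_le_add k (V₁ := Coh.HH X (CohB1.tensorMod M (ClSub.idealMod D)) 0)
    (V₂ := Coh.HH X (CohB1.tensorMod M (Coh.structureModule X)) 0)
    (V₃ := Coh.HH X (CohB1.tensorMod M (ClSub.quotMod D)) 0) _ _ (VarietyA.EulerLES.exactA₂ k _ hS 0)
  rw [finrank_congr k (Ega2.Tens.runit M) 0] at h
  rwa [finrank_congr k (Ega2.Tens.swap (ClSub.quotMod D) M) 0]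

variable [IsAlgClosed k]

/-- `h⁰(L|_C) ≤ deg + 1`. -/
theorem h0_curve_le {C : X.IdealSheafData} (hC : IsCurve C) {L : X.Modules} (hL : PicF.IsInvertible L)
    (hdeg : 0 ≤ degOn k X C (mk L hL)) :
    (Module.finrank k (Coh.HH X (CohB1.tensorMod (ClSub.quotMod C) L) 0) : ℤ) ≤ degOn k X C (mk L hL) + 1 := by
  letI := overC k X C
  have := isProper_sub k X C
  have := hC.integral
  have hd : topologicalKrullDim C.subscheme = 1 := (dim_sub X C).trans hC.dim
  rw [(hhSub k C hL 0).finrank_eq]
  rcases subsingleton_or_nontrivial (Coh.HH C.subscheme ((Scheme.Modules.pullback C.subschemeι).obj L) 0) with h | h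
  · rw [Module.finrank_zero_of_subsingleton]
    push_cast
    linarith
  · have h1 := (S1564.result k C.subscheme hd (VarietyA.CurveFin.finrank_h0_structure k _) _
      (Fdesc.LocGen.isInvertible_pullback C.subschemeι hL) h).1
    rwa [← degOn_eq_deg k X C hL] at h1

variable [IsIntegral X] [Smooth (X ↘ Spec (CommRingCat.of k))] (hdim : topologicalKrullDim X = 2)

include hdim in
omit [IsAlgClosed k] in
/-- No sections in negative degree. -/
theorem h0_zero {Γ : X.IdealSheafData} (hE : BlowUp.IsEffCartierIdeal Γ)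
    (hnef : ∀ C : X.IdealSheafData, IsCurve C → 0 ≤ degOn k X C (ic Γ hE)⁻¹)
    {M : X.Modules} (hM : PicF.IsInvertible M) (h : degOn k X Γ (mk M hM) < 0) : Subsingleton (Coh.HH X M 0) := by
  by_contra hne
  rw [not_subsingleton_iff_nontrivial] at hne
  obtain ⟨σ, hσ⟩ := exists_ne (0 : Coh.HH X M 0)
  obtain ⟨D, hD⟩ := K671.SecDiv.exists_isDiv hM (CurvesB.HZero.equivAdd M σ) (by
    intro h0
    exact hσ ((AddEquiv.map_eq_zero_iff _).1 h0))
  have h1 := K464.Comp.degOn_nonneg_of_forall k hdim hnef hD.eff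
  rw [degOn_eq_neg_dot k X hD.eff, dot_inv_right k X hdim.le, neg_neg, dot_comm] at h1
  rw [hD.class hM, degOn_eq_neg_dot k X hE, dot_inv_right k X hdim.le, neg_neg] at h
  linarith

include hdim in
/-- **The upper bound.** -/
theorem h0_up {Γ : X.IdealSheafData} (hΓ : IsCurve Γ) (hE : BlowUp.IsEffCartierIdeal Γ)
    (hnef : ∀ C : X.IdealSheafData, IsCurve C → 0 ≤ degOn k X C (ic Γ hE)⁻¹)
    {g : ℤ} (hg : 0 < g) (hgg : degOn k X Γ (ic Γ hE) = - g) (n : ℕ) :
    ∀ {M : X.Modules} (hM : PicF.IsInvertible M), degOn k X Γ (mk M hM) < n → 0 ≤ degOn k X Γ (mk M hM) →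
      2 * g * (Module.finrank k (Coh.HH X M 0) : ℤ) ≤
        degOn k X Γ (mk M hM) ^ 2 + 4 * g * degOn k X Γ (mk M hM) + 2 * g := by
  induction n with
  | zero =>
    intro M hM h1 h2
    push_cast at h1
    omega
  | succ n ih =>
    intro M hM h1 h2
    have hM' := Fdesc.LocGen.isInvertible_tensorMod hM (isInvertible_idealMod hE)
    have h3 : degOn k X Γ (mk _ hM') = degOn k X Γ (mk M hM) - g := by
      rw [← mk_mul_mk hM (isInvertible_idealMod hE), degOn_mul k hΓ]
      change _ + degOn k X Γ (ic Γ hE) = _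
      rw [hgg]
      ring
    have h4 := h0_le_add k hM hE
    have h5 := h0_curve_le k hΓ hM h2
    have h4' : (Module.finrank k (Coh.HH X M 0) : ℤ) ≤
        Module.finrank k (Coh.HH X (CohB1.tensorMod M (ClSub.idealMod Γ)) 0) +
          Module.finrank k (Coh.HH X (CohB1.tensorMod (ClSub.quotMod Γ) M) 0) := by exact_mod_cast h4
    set t := degOn k X Γ (mk M hM) with ht
    rcases lt_or_ge (t - g) 0 with h6 | h6
    · have h7 := h0_zero k hdim hE hnef hM' (by rw [h3]; exact h6)
      rw [Module.finrank_zero_of_subsingleton (M := Coh.HH X (CohB1.tensorMod M (ClSub.idealMod Γ)) 0)] at h4'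
      push_cast at h4'
      nlinarith
    · have h7 := ih hM' (by rw [h3]; push_cast at h1; linarith) (by rw [h3]; exact h6)
      rw [h3] at h7
      nlinarith

end K671.H0Up
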