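import Groth.Agent.Surf.K464.DivLat
import Groth.Agent.Divis.EffIntegral
import Groth.Agent.W4c2seshadripos.K850.JetStalk
import Groth.Agent.W4c2seshadripos.K850.IdealTwist
import Groth.Agent.CycB.StalkExact
import Groth.Agent.Dix.BlowIrr

/-!
# Multiplicities of effective divisors on a surface

* `germ_iff`: the condition `I_y ≤ J` in terms of germs.
* `le_pt_pow`: `I_x ≤ m_x^n` implies `I ≤ m_x^n` as ideal sheaves.
* `stalkIdeal_gp`: the stalk of the ideal of a curve at its generic point.
* `mult_gp`: `cyc C n ≤ m^N` at the generic point of `C_i` iff `N ≤ n_i`.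
* `separatesJets_of_surjective`, `separatesJets_mono`.
-/

set_option autoImplicit false
universe u
open CategoryTheory CategoryTheory.Limits AlgebraicGeometry TopologicalSpace

namespace K671.Mult

open Groth.Agent Groth.Agent.Divis.CartierBasic K464.Base K464.Curves K464.DivLat

section

variable {X : Scheme.{u}}

theorem exists_affine_mem (y : X) : ∃ V : X.affineOpens, y ∈ (V : X.Opens) := by
  obtain ⟨V, hV, hy, -⟩ := exists_isAffineOpen_mem_and_subset (U := (⊤ : X.Opens)) (x := y) trivial
  exact ⟨⟨V, hV⟩, hy⟩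

theorem germ_iff {I : X.IdealSheafData} {y : X} {J : Ideal (X.presheaf.stalk y)} :
    (∀ (V : X.affineOpens) (hyV : y ∈ (V : X.Opens)), (I.ideal V).map (X.presheaf.germ V y hyV).hom ≤ J) ↔
      stalkIdeal I y ≤ J := by
  constructor
  · intro h
    obtain ⟨V, hV⟩ := exists_affine_mem y
    rw [stalkIdeal_eq I V hV]
    exact h V hV
  · intro h V hV
    rw [← stalkIdeal_eq I V hV]
    exact h

theorem mem_support_pt {x : X} {hx : IsClosed ({x} : Set X)} (y : X) :
    y ∈ (W4c2seshadripos.pointIdeal x hx).support ↔ y = x := by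
  have h : ((W4c2seshadripos.pointIdeal x hx).support : Set X) = {x} :=
    Scheme.IdealSheafData.coe_support_vanishingIdeal _
  exact Set.ext_iff.1 h y

theorem le_pt_pow {x : X} {hx : IsClosed ({x} : Set X)} {J : X.IdealSheafData} {n : ℕ}
    (h : stalkIdeal J x ≤ IsLocalRing.maximalIdeal (X.presheaf.stalk x) ^ n) :
    J ≤ W4c2seshadripos.pointIdeal x hx ^ n := by
  refine le_of_stalkIdeal fun y => ?_
  by_cases hy : y = x
  · subst hy
    rw [K850.JetStalk.stalkIdeal_pointIdeal_pow]
    exact h
  · have h1 : y ∉ (W4c2seshadripos.pointIdeal x hx).support := fun h => hy ((mem_support_pt y).1 h)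
    rw [stalkIdeal_pow, (notMem_support_iff_stalkIdeal_eq_top _ y).1 h1, Ideal.top_pow]
    exact le_top

variable {k : Type u} [Field k]

theorem stalkIdeal_gp (f : X ⟶ Spec (CommRingCat.of k)) [LocallyOfFiniteType f] [IsIntegral X]
    (hdim : topologicalKrullDim X = 2) {C : X.IdealSheafData} (hC : IsCurve C) (hE : BlowUp.IsEffCartierIdeal C) :
    stalkIdeal C (gp hC) = IsLocalRing.maximalIdeal (X.presheaf.stalk (gp hC)) := by
  obtain ⟨g, hg, h⟩ := exists_stalkIdeal_eq_span hE (gp hC)
  have := hC.integral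
  have := Divis.StalkPrime.isPrime_stalkIdeal C (gp_mem hC)
  exact Divis.EffIntegral.eq_maximalIdeal_of_dim_le_one (ringKrullDim_gp k f hdim hC).le _ g hg
    (by rw [h]; exact Ideal.mem_span_singleton_self g)

/-- Multiplicity at the generic point of a component. -/
theorem mult_gp (f : X ⟶ Spec (CommRingCat.of k)) [LocallyOfFiniteType f] [IsIntegral X]
    (hdim : topologicalKrullDim X = 2) {ι : Type*} [Fintype ι] {C : ι → X.IdealSheafData} (hC : ∀ i, IsCurve (C i))
    (hE : ∀ i, BlowUp.IsEffCartierIdeal (C i)) (hinj : Function.Injective C) (n : ι → ℕ) (i : ι) (N : ℕ) :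
    stalkIdeal (cyc C n) (gp (hC i)) ≤ IsLocalRing.maximalIdeal (X.presheaf.stalk (gp (hC i))) ^ N ↔ N ≤ n i := by
  rw [stalkIdeal_cyc (fun j hj => gp_notMem_of_ne hC hinj hj), stalkIdeal_gp f hdim (hC i) (hE i)]
  constructor
  · intro h
    obtain ⟨g, hg, hgs⟩ := exists_stalkIdeal_eq_span (hE i) (gp (hC i))
    rw [stalkIdeal_gp f hdim (hC i) (hE i)] at hgs
    rw [hgs] at h
    refine le_of_pow_le_pow hg (fun hu => ?_) h
    rw [Ideal.span_singleton_eq_top.2 hu] at hgs
    exact (IsLocalRing.maximalIdeal.isMaximal (X.presheaf.stalk (gp (hC i)))).ne_top hgs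
  · intro h
    exact Ideal.pow_le_pow_right h

theorem gp_ne_of_isClosed (f : X ⟶ Spec (CommRingCat.of k)) [LocallyOfFiniteType f] [IsIntegral X]
    (hdim : topologicalKrullDim X = 2) {C : X.IdealSheafData} (hC : IsCurve C) {x : X}
    (hx : ringKrullDim (X.presheaf.stalk x) = 2) : gp hC ≠ x := by
  intro h
  have h1 := ringKrullDim_gp k f hdim hC
  rw [h, hx] at h1
  exact absurd h1 (by norm_num)

theorem eq_gp_of_mem (f : X ⟶ Spec (CommRingCat.of k)) [LocallyOfFiniteType f] [IsIntegral X]
    (hdim : topologicalKrullDim X = 2) {C : X.IdealSheafData} (hC : IsCurve C) {y : X} (hy : y ∈ C.support)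
    (h1 : ringKrullDim (X.presheaf.stalk y) = 1) : y = gp hC := by
  by_contra hne
  have hsp : gp hC ⤳ y := by
    rw [specializes_iff_mem_closure, closure_gp hC]
    exact hy
  have hgC : gp hC ≠ genericPoint X := by
    intro hg
    have h2 := ringKrullDim_gp k f hdim hC
    have h3 : Order.coheight (gp hC) = 0 := by
      rw [hg, Order.coheight_eq_zero]
      intro b _
      exact genericPoint_specializes b
    rw [ringKrullDim_stalk_eq_coheight, h3] at h2
    exact absurd h2 (by decide)
  have h4 := Dix.BlowIrr.coheight_two (genericPoint_specializes (gp hC)) hsp hgC hne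
  rw [ringKrullDim_stalk_eq_coheight] at h1
  have h8 : Order.coheight y = 1 := by exact_mod_cast h1
  rw [h8] at h4
  exact absurd h4 (by decide)

theorem gp_mem_open {C : X.IdealSheafData} (hC : IsCurve C) {x : X} (hx : x ∈ C.support) {U : X.Opens}
    (hxU : x ∈ U) : gp hC ∈ U := by
  have h1 : gp hC ⤳ x := by
    rw [specializes_iff_mem_closure, closure_gp hC]
    exact hx
  exact h1.mem_open U.2 hxU

end

section Jets

variable {X : Scheme.{u}}

theorem separatesJets_mono {F : X.Modules} {x : X} {hx : IsClosed ({x} : Set X)} {l l' : ℕ} (hl : l ≤ l')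
    (h : W4c2seshadripos.SeparatesJets F x hx l') : W4c2seshadripos.SeparatesJets F x hx l := by
  rw [K850.JetStalk.separatesJets_iff] at h ⊢
  intro t
  obtain ⟨s, hs⟩ := h t
  exact ⟨s, Submodule.smul_mono_left (Ideal.pow_le_pow_right (by omega)) hs⟩

open Groth.Agent.CycB.StalkExact in
theorem separatesJets_of_surjective {F G : X.Modules} (φ : F ⟶ G) {x : X} {hx : IsClosed ({x} : Set X)}
    (hφ : Function.Surjective (stalkLin φ x)) {l : ℕ}
    (h : W4c2seshadripos.SeparatesJets F x hx l) : W4c2seshadripos.SeparatesJets G x hx l := by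
  rw [K850.JetStalk.separatesJets_iff] at h ⊢
  intro t
  obtain ⟨t', rfl⟩ := hφ t
  obtain ⟨s, hs⟩ := h t'
  refine ⟨φ.app ⊤ s, ?_⟩
  rw [← stalkLin_germ φ x (U := ⊤) trivial s, ← map_sub]
  have h1 := Submodule.mem_map_of_mem (f := stalkLin φ x) hs
  rw [Submodule.map_smul''] at h1
  exact Submodule.smul_mono le_rfl le_top h1

open Groth.Agent.CycB.StalkExact in
/-- `I ⊗ F → F` is onto at a point outside the support of `I`. -/
theorem stalkLin_mu_surjective (I : X.IdealSheafData) {F : X.Modules} (hF : PicF.IsInvertible F) {x : X}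
    (hx : x ∉ I.support) : Function.Surjective (stalkLin (Groth.Agent.CurvesB.SepLift.mu I F) x) := by
  have h1 : x ∉ CohB1.support (cokernel (Groth.Agent.CurvesB.SepLift.mu I F)) := fun h =>
    hx (K850.IdealTwist.support_cokernel_mu_subset I hF h)
  have h2 := K850.IdealTwist.epi_of_not_mem_support_cokernel _ h1
  exact (AddCommGrpCat.epi_iff_surjective _).1 h2

end Jets

end K671.Mult
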