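import Groth.Agent.AdjLin.K671.NefVan
import Groth.Agent.AdjLin.K671.Mult

/-!
# Kawamata–Viehweg vanishing for `H^1` on a surface: the nef and big case

`G^n(-D) = P` nef with `P² > 0`, `D = ∑ δ_i C_i` with `δ_i < n`, then `H^1(X, G^{-1}) = 0`.
-/

set_option autoImplicit false
universe u
open CategoryTheory CategoryTheory.Limits AlgebraicGeometry

namespace K671.NefBig

open Groth.Agent Groth.Agent.Grpsch.PicGrp K464.Base K464.Curves K464.DivLat K464.Comp K801.DotForm K801.Bridge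
  K801.ZarKV Groth.Agent.Dix.IdealModCartier Groth.Agent.Divis.CartierBasic Groth.Agent.Divis.EffCartier K671.Mult

theorem gp_congr {X : Scheme.{u}} {A B : X.IdealSheafData} (hA : IsCurve A) (hB : IsCurve B) (h : A = B) :
    gp hA = gp hB := by
  subst h
  rfl

variable {k : Type u} [Field k] [IsAlgClosed k] {X : Scheme.{u}}
  [X.Over (Spec (CommRingCat.of k))] [IsProper (X ↘ Spec (CommRingCat.of k))]
  [Smooth (X ↘ Spec (CommRingCat.of k))] [IsIntegral X] (hdim : topologicalKrullDim X = 2)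

include k hdim in
omit [IsAlgClosed k] [Smooth (X ↘ Spec (CommRingCat.of k))] in
/-- The multiplicities of a divisor do not depend on the family of curves. -/
theorem lt_of_cyc_eq {r r' : ℕ} {C : Fin r → X.IdealSheafData} (hC : ∀ i, IsCurve (C i))
    (hE : ∀ i, BlowUp.IsEffCartierIdeal (C i)) (hinj : Function.Injective C) {δ : Fin r → ℕ} {n : ℕ} (hn : 0 < n)
    (hδ : ∀ i, δ i < n) {C' : Fin r' → X.IdealSheafData} (hC' : ∀ i, IsCurve (C' i))
    (hE' : ∀ i, BlowUp.IsEffCartierIdeal (C' i)) (hinj' : Function.Injective C') {δ' : Fin r' → ℕ}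
    (h : cyc C δ = cyc C' δ') (i : Fin r') : δ' i < n := by
  by_contra hlt
  push Not at hlt
  have h1 := (mult_gp (X ↘ Spec (CommRingCat.of k)) hdim hC' hE' hinj' δ' i n).2 hlt
  rw [← h] at h1
  have h2 : gp (hC' i) ∈ (cyc C δ).support := by
    rw [mem_support_iff_stalkIdeal_ne_top]
    intro htop
    rw [htop, top_le_iff] at h1
    have h3 := Ideal.pow_le_self (I := IsLocalRing.maximalIdeal (X.presheaf.stalk (gp (hC' i)))) hn.ne'
    rw [h1, top_le_iff] at h3
    exact (IsLocalRing.maximalIdeal.isMaximal _).ne_top h3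
  obtain ⟨j, -, -, hj⟩ := Dix.IdealQuot.support_prod C Finset.univ δ _ h2
  have h4 : gp (hC' i) = gp (hC j) := gp_congr _ _ (eq_of_gp_mem (hC' i) (hC j) hj)
  rw [h4] at h1
  exact absurd ((mult_gp (X ↘ Spec (CommRingCat.of k)) hdim hC hE hinj δ j n).1 h1) (not_le.2 (hδ j))

variable [CharZero k] {H : X.Modules} (hH : CohB1.IsAmple H)

theorem aux {G : Type*} [CommGroup G] (g d f p a : G) (n N T : ℕ) (h1 : g ^ n * d = p) (h2 : p ^ N * f = a) :
    p ^ (N * T) * a = g ^ (n * (N * (T + 1))) * (d ^ (N * (T + 1)) * f) := by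
  have e1 : g ^ (n * (N * (T + 1))) * (d ^ (N * (T + 1)) * f) = (g ^ n * d) ^ (N * (T + 1)) * f := by
    rw [mul_pow, ← pow_mul, mul_assoc]
  rw [e1, h1, ← h2, ← mul_assoc, ← pow_add, mul_add, mul_one]

include hdim hH

/-- **Vanishing for nef and big classes with a fractional part.** -/
theorem vanish {r : ℕ} {C : Fin r → X.IdealSheafData} (hC : ∀ i, IsCurve (C i))
    (hE : ∀ i, BlowUp.IsEffCartierIdeal (C i)) (hinj : Function.Injective C) {n : ℕ} (hn : 0 < n) {δ : Fin r → ℕ}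
    (hδ : ∀ i, δ i < n) {G G' : X.Modules} (hG : PicF.IsInvertible G) (hG' : ClSub.IsInverseOf G' G) {P : Pic X}
    (hclass : mk G hG ^ n * ic (cyc C δ) (isEff_cyc hE δ) = P)
    (hnef : ∀ D : X.IdealSheafData, IsCurve D → 0 ≤ degOn k X D P) (hsq : 0 < dot k X P P) :
    Subsingleton (Coh.HH X G' 1) := by
  have hd := hdim.le
  have hnoeth : IsNoetherian X := Fga.IntAdd.isNoetherian k X
  have hreg : ∀ x : X, IsRegularLocalRing (X.presheaf.stalk x) := fun x => S1535.result k X x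
  obtain ⟨P₀, hP₀, rfl⟩ := exists_mk P
  obtain ⟨N, A, hA, DA, DF, hDA, hDF, hN, hAc, hPc⟩ := exists_big hdim hH hP₀ hsq
    (K671.NefVan.dot_pos_of_nef (k := k) hdim hH hsq hnef)
  have hDE := isEff_cyc hE δ
  obtain ⟨r', C', c, hC', hinj', -, hcyc⟩ := K464.Comp.exists_eq_cyc k (X ↘ Spec (CommRingCat.of k)) hdim hreg
    (cyc C δ * DF) (isEff_mul hDE hDF)
  have hE' : ∀ i, BlowUp.IsEffCartierIdeal (C' i) := fun i => isEff_of_smooth k hdim (hC' i)
  have hsub : ∀ D : X.IdealSheafData, cyc C δ * DF ≤ D → (D.support : Set X) ⊆ ⋃ i, ((C' i).support : Set X) := by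
    intro D hD
    refine subset_trans ?_ (support_cyc_subset (C := C') c)
    rw [← hcyc]
    exact Scheme.IdealSheafData.support_antitone hD
  obtain ⟨δ', hδ'⟩ := exists_cyc hC' hE' hDE (hsub _ (mul_le_left (cyc C δ) DF))
  obtain ⟨φ, hφ⟩ := exists_cyc hC' hE' hDF (hsub DF (mul_le_right' (cyc C δ) DF))
  have hδlt := lt_of_cyc_eq (k := k) hdim hC hE hinj hn hδ hC' hE' hinj' hδ'
  have zδ : ic (cyc C δ) hDE = z hE' δ' := ic_congr hDE _ hδ'
  have zF : ic DF hDF = z hE' φ := ic_congr hDF _ hφ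
  set T : ℕ := ∑ i, φ i with hT
  set ε : Fin r' → ℕ := (N * (T + 1)) • δ' + φ with hε
  have hM1 : 1 ≤ n * (N * (T + 1)) := Nat.mul_pos hn (Nat.mul_pos hN (Nat.succ_pos _))
  have hεlt : ∀ i, ε i < n * (N * (T + 1)) := by
    intro i
    have h1 : φ i ≤ T := Finset.single_le_sum (f := φ) (fun j _ => Nat.zero_le _) (Finset.mem_univ i)
    have h2 : (δ' i + 1) * (N * (T + 1)) ≤ n * (N * (T + 1)) := Nat.mul_le_mul_right _ (hδlt i)
    have h3 : T + 1 ≤ N * (T + 1) := Nat.le_mul_of_pos_left _ hN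
    have h4 : ε i = δ' i * (N * (T + 1)) + φ i := by
      simp only [hε, Pi.add_apply, Pi.smul_apply, smul_eq_mul]
      ring
    rw [h4]
    rw [add_mul, one_mul] at h2
    omega
  have hnef' : K909.Kleiman.Nef k X P₀ := by
    rw [nef_iff k hd hP₀]
    exact hnef
  have hamp := K909.Kleiman.isAmple_combo (nak := K424.NakMain.nak k) (hd := hd) (hnef := hnef') hP₀ hA (N * T) 1
    one_pos
  refine K801.KV.vanish (k := k) le_rfl hdim hG' hM1 (isEff_cyc hE' ε)
    (K801.NFreeCyc.nfree_cyc hC' hE' hinj' hM1 hεlt) ?_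
  have hMi := Fdesc.LocGen.isInvertible_tensorPow hG (n * (N * (T + 1)))
  have e : Nonempty (K909.Kleiman.combo X P₀ A (N * T) 1 ≅ CohB1.tensorMod (CohB1.tensorPow
      G (n * (N * (T + 1)))) (ClSub.idealMod (cyc C' ε))) := by
    rw [← mk_eq_iff (K909.Kleiman.isInvertible_combo X hP₀ hA.1 (N * T) 1)
      (Fdesc.LocGen.isInvertible_tensorMod hMi (isInvertible_idealMod (isEff_cyc hE' ε))),
      K909.Kleiman.mk_combo X hP₀ hA.1, ← mk_mul_mk hMi (isInvertible_idealMod (isEff_cyc hE' ε)), mk_tensorPow hG]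
    change mk P₀ hP₀ ^ (N * T) * mk A hA.1 ^ 1 = mk G hG ^ (n * (N * (T + 1))) * z hE' ε
    rw [hε, z_add, z_nsmul, pow_one]
    refine aux _ _ _ _ _ n N T (by rw [← zδ]; exact hclass) ?_
    rw [hPc, ← zF, hAc, inv_mul_cancel_right]
  obtain ⟨e⟩ := e
  exact S2329.isAmple_of_iso e hamp

end K671.NefBig
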