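import Groth.Agent.AdjLin.K671.JetMain
import Groth.Agent.AdjLin.K671.Mult
import Groth.Agent.AdjLin.K671.NefBig
import Groth.Agent.Surf.K457.BlowMult

/-!
# Adjoint jets from a divisor with almost isolated multiplicity

`D ∈ |L^m|` of multiplicity `≥ q > (s + 2) m` at `x` and `< q / (s + 2)` at the other points near `x`, `L` nef and big:
`H^1(X, m_x^(s+1) ⊗ (L ⊗ ω)) = 0`.
-/

set_option autoImplicit false
universe u
open CategoryTheory CategoryTheory.Limits AlgebraicGeometry TopologicalSpace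

namespace K671.IsoMult

open Groth.Agent Groth.Agent.Grpsch.PicGrp K464.Base K464.Curves K464.DivLat K671.BlowPow K671.BlowSurf K671.JetMain
  K671.Mult Groth.Agent.Dix.IdealModCartier Groth.Agent.Divis.CartierBasic Groth.Agent.Divis.EffCartier

theorem pull_ic {X Y : Scheme.{u}} (f : Y ⟶ X) {D : X.IdealSheafData} (hD : BlowUp.IsEffCartierIdeal D)
    (hD' : BlowUp.IsEffCartierIdeal (D.comap f)) : pull f (ic D hD) = ic (D.comap f) hD' := by
  obtain ⟨e⟩ := pullback_idealMod f hD hD'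
  exact (mk_eq_iff _ _).2 ⟨e⟩

variable (k : Type u) [Field k] [IsAlgClosed k] {X Y : Scheme.{u}} [X.Over (Spec (CommRingCat.of k))]
  [Y.Over (Spec (CommRingCat.of k))] [IsProper (X ↘ Spec (CommRingCat.of k))]
  [Smooth (X ↘ Spec (CommRingCat.of k))] [IsIntegral X] (hdim : topologicalKrullDim X = 2)
  {x : X} {hx : IsClosed ({x} : Set X)} {f : Y ⟶ X}
  (hf : f ≫ (X ↘ Spec (CommRingCat.of k)) = Y ↘ Spec (CommRingCat.of k))
  (hbl : BlowUp.IsBlowUp f (W4c2seshadripos.pointIdeal x hx))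

include k hdim in
omit [Y.Over (Spec (CommRingCat.of k))] [IsAlgClosed k] in
/-- Data of a divisor with almost isolated multiplicity, split with respect to division by `q`. -/
theorem exists_split_mod {I : X.IdealSheafData} (hI : BlowUp.IsEffCartierIdeal I) (s q : ℕ) (hq0 : 0 < q)
    (hqx : stalkIdeal I x ≤ IsLocalRing.maximalIdeal (X.presheaf.stalk x) ^ q)
    (hx2 : ringKrullDim (X.presheaf.stalk x) = 2)
    (U : X.Opens) (hxU : x ∈ U)
    (hU : ∀ y : X, y ∈ U → y ≠ x → ∀ n : ℕ,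
      stalkIdeal I y ≤ IsLocalRing.maximalIdeal (X.presheaf.stalk y) ^ n → (s + 2) * n < q) :
    ∃ (r : ℕ) (C : Fin r → X.IdealSheafData) (a d : Fin r → ℕ) (hC : ∀ i, IsCurve (C i))
      (hE : ∀ i, BlowUp.IsEffCartierIdeal (C i)), Function.Injective C ∧ I ^ (s + 2) = cyc C a ^ q * cyc C d ∧
      (∀ i, d i < q) ∧ x ∉ (cyc C a).support ∧ cyc C d ≤ W4c2seshadripos.pointIdeal x hx ^ (q * (s + 2)) := by
  have hnoeth : IsNoetherian X := Fga.IntAdd.isNoetherian k X
  have hreg : ∀ x : X, IsRegularLocalRing (X.presheaf.stalk x) := fun x => S1535.result k X x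
  obtain ⟨r, C, n, hC, hinj, -, hcyc⟩ := K464.Comp.exists_eq_cyc k (X ↘ Spec (CommRingCat.of k)) hdim hreg I hI
  have hE : ∀ i, BlowUp.IsEffCartierIdeal (C i) := fun i => isEff_of_smooth k hdim (hC i)
  have hnx : ∀ i, x ∈ (C i).support → (s + 2) * n i < q := by
    intro i hi
    refine hU (gp (hC i)) (gp_mem_open (hC i) hi hxU)
      (gp_ne_of_isClosed (X ↘ Spec (CommRingCat.of k)) hdim (hC i) hx2) (n i) ?_
    rw [hcyc]
    exact (mult_gp (X ↘ Spec (CommRingCat.of k)) hdim hC hE hinj n i (n i)).2 le_rfl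
  have hsplit : I ^ (s + 2) = cyc C (fun i => (s + 2) * n i / q) ^ q * cyc C (fun i => (s + 2) * n i % q) := by
    rw [hcyc, ← cyc_nsmul, ← cyc_nsmul, ← cyc_add]
    congr 1
    funext i
    simp only [Pi.smul_apply, Pi.add_apply, smul_eq_mul]
    exact (Nat.div_add_mod _ _).symm
  have hxa : x ∉ (cyc C (fun i => (s + 2) * n i / q)).support := by
    intro h
    obtain ⟨i, -, hi, hi'⟩ := Dix.IdealQuot.support_prod C Finset.univ _ x h
    exact hi (Nat.div_eq_of_lt (hnx i hi'))
  refine ⟨r, C, fun i => (s + 2) * n i / q, fun i => (s + 2) * n i % q, hC, hE, hinj, hsplit,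
    fun i => Nat.mod_lt _ hq0, hxa, le_pt_pow ?_⟩
  have h1 := congrArg (fun J : X.IdealSheafData => stalkIdeal J x) hsplit
  simp only [stalkIdeal_mul, stalkIdeal_pow] at h1
  rw [(notMem_support_iff_stalkIdeal_eq_top _ x).1 hxa, Ideal.top_pow, Ideal.top_mul] at h1
  rw [← h1, pow_mul]
  exact Ideal.pow_right_mono hqx (s + 2)

include hdim hf hbl in
/-- The components of the transform of `cyc C d` other than the exceptional curve have multiplicity `< q`. -/
theorem lt_of_ne {r : ℕ} {C : Fin r → X.IdealSheafData} (hC : ∀ i, IsCurve (C i))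
    (hE : ∀ i, BlowUp.IsEffCartierIdeal (C i)) (hinj : Function.Injective C) {d : Fin r → ℕ} {q : ℕ}
    (hq0 : 0 < q) (hd : ∀ i, d i < q) (N : ℕ) {DY : Y.IdealSheafData}
    (hDY : BlowUp.exceptional f (W4c2seshadripos.pointIdeal x hx) ^ N * DY = (cyc C d).comap f)
    {r' : ℕ} {C' : Fin r' → Y.IdealSheafData} {δ : Fin r' → ℕ} (hC' : ∀ i, IsCurve (C' i))
    (hinj' : Function.Injective C') (hcyc' : DY = cyc C' δ) (i : Fin r')
    (hi : C' i ≠ BlowUp.exceptional f (W4c2seshadripos.pointIdeal x hx)) : δ i < q := by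
  have := proper k hdim hf hbl
  have hs := smooth k hdim hf hbl
  have := isIntegral k hdim hbl
  have hdY := dim_eq k hdim hf hbl
  have : Smooth (Y ↘ Spec (CommRingCat.of k)) := SmoothOfRelativeDimension.smooth 2 _
  have hnoeth : IsNoetherian X := Fga.IntAdd.isNoetherian k X
  have hreg : ∀ x : X, IsRegularLocalRing (X.presheaf.stalk x) := fun x => S1535.result k X x
  obtain ⟨hEc, -⟩ := K457.BlowPt.exists_iso k hdim hreg x hx f hbl hf
  have hE' : ∀ i, BlowUp.IsEffCartierIdeal (C' i) := fun i => isEff_of_smooth k hdY (hC' i)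
  by_contra hlt
  push Not at hlt
  set y' := gp (hC' i) with hy'
  have hyE : y' ∉ (BlowUp.exceptional f (W4c2seshadripos.pointIdeal x hx)).support := fun h =>
    hi (eq_of_gp_mem (hC' i) hEc h)
  have hyx : f y' ≠ x := fun h => hyE ((K457.BlowMult.mem_exc_iff x hx f y').2 h)
  have hiso : IsIso (f.stalkMap y') := K457.BlowMult.isIso_stalkMap x hx f hbl y' hyx
  -- the stalk at `y'`
  have h1 : stalkIdeal ((cyc C d).comap f) y' ≤ IsLocalRing.maximalIdeal (Y.presheaf.stalk y') ^ q := by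
    rw [← hDY, stalkIdeal_mul, stalkIdeal_pow, (notMem_support_iff_stalkIdeal_eq_top _ y').1 hyE, Ideal.top_pow,
      Ideal.top_mul, hcyc']
    exact (mult_gp (Y ↘ Spec (CommRingCat.of k)) hdY hC' hE' hinj' δ i q).2 hlt
  rw [Divis.CartierStalk.stalkIdeal_comap] at h1
  have hbij : Function.Bijective (f.stalkMap y').hom := ConcreteCategory.bijective_of_isIso (f.stalkMap y')
  let e : X.presheaf.stalk (f y') ≃+* Y.presheaf.stalk y' := RingEquiv.ofBijective (f.stalkMap y').hom hbij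
  have hmax : (IsLocalRing.maximalIdeal (X.presheaf.stalk (f y'))).map (f.stalkMap y').hom =
      IsLocalRing.maximalIdeal (Y.presheaf.stalk y') := by
    have hloc : IsLocalHom (f.stalkMap y').hom := inferInstance
    rw [← IsLocalRing.maximalIdeal_comap (f.stalkMap y').hom]
    exact Ideal.map_comap_of_surjective _ hbij.2 _
  have h2 : stalkIdeal (cyc C d) (f y') ≤ IsLocalRing.maximalIdeal (X.presheaf.stalk (f y')) ^ q := by
    rw [← hmax, ← Ideal.map_pow] at h1
    have h3 := Ideal.comap_mono (f := (f.stalkMap y').hom) h1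
    rw [Ideal.comap_map_of_bijective _ hbij, Ideal.comap_map_of_bijective _ hbij] at h3
    exact h3
  -- `f y'` is the generic point of one of the `C j`
  have h4 : f y' ∈ (cyc C d).support := by
    rw [mem_support_iff_stalkIdeal_ne_top]
    intro htop
    rw [htop, top_le_iff] at h2
    have := Ideal.pow_le_self (I := IsLocalRing.maximalIdeal (X.presheaf.stalk (f y'))) hq0.ne'
    rw [h2, top_le_iff] at this
    exact (IsLocalRing.maximalIdeal.isMaximal _).ne_top this
  obtain ⟨j, -, hj, hj'⟩ := Dix.IdealQuot.support_prod C Finset.univ d _ h4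
  have hdimy : ringKrullDim (X.presheaf.stalk (f y')) = 1 := by
    rw [ringKrullDim_eq_of_ringEquiv e]
    exact ringKrullDim_gp k (Y ↘ Spec (CommRingCat.of k)) hdY (hC' i)
  have h5 : f y' = gp (hC j) := eq_gp_of_mem (X ↘ Spec (CommRingCat.of k)) hdim (hC j) hj' hdimy
  have h6 := h2
  rw [h5] at h6
  exact absurd ((mult_gp (X ↘ Spec (CommRingCat.of k)) hdim hC hE hinj d j q).1 h6) (not_le.2 (hd j))

theorem exists_pow_exc {E : Y.IdealSheafData} {r' : ℕ} {C' : Fin r' → Y.IdealSheafData} {δ : Fin r' → ℕ}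
    (hinj' : Function.Injective C') {q : ℕ} (hlt : ∀ i, C' i ≠ E → δ i < q) :
    ∃ c, cyc C' (fun i => δ i / q) = E ^ c := by
  by_cases h : ∃ i, C' i = E
  · obtain ⟨i, hi⟩ := h
    refine ⟨δ i / q, ?_⟩
    unfold cyc
    rw [Finset.prod_eq_single i]
    · rw [hi]
    · intro j _ hj
      change C' j ^ (δ j / q) = 1
      rw [Nat.div_eq_of_lt (hlt j (fun h => hj (hinj' (h.trans hi.symm)))), pow_zero]
    · intro h
      exact absurd (Finset.mem_univ i) h
  · push Not at h
    refine ⟨0, ?_⟩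
    unfold cyc
    rw [pow_zero]
    refine Finset.prod_eq_one fun i _ => ?_
    change C' i ^ (δ i / q) = 1
    rw [Nat.div_eq_of_lt (hlt i (h i)), pow_zero]

/-- The computation in the Picard group. -/
theorem class_aux {G : Type*} [CommGroup G] (L N e Dr B D₁ I : G) (q m s c : ℕ) (hq : (s + 2) * m < q)
    (h2 : e ^ (q * (s + 2)) * (B ^ q * Dr) = D₁) (hB : B = e ^ c) (h4 : N ^ q * D₁ = I ^ (s + 2)) (h5 : L ^ m * I = 1) :
    (L * N * e ^ (s + 2 + c)) ^ q * Dr = L ^ (q - (s + 2) * m) := by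
  obtain ⟨p, rfl⟩ : ∃ p, q = (s + 2) * m + p := ⟨q - (s + 2) * m, by omega⟩
  rw [Nat.add_sub_cancel_left]
  set q := (s + 2) * m + p with hqd
  have h6 : (L * N * e ^ (s + 2 + c)) ^ q * Dr = L ^ q * (N ^ q * (e ^ (q * (s + 2)) * (B ^ q * Dr))) := by
    rw [hB, mul_pow, mul_pow, ← pow_mul, ← pow_mul, add_mul, mul_comm (s + 2) q]
    simp only [pow_add, mul_assoc]
  rw [h6, h2, h4]
  have h7 : L ^ q = L ^ p * (L ^ m) ^ (s + 2) := by
    rw [← pow_mul, ← pow_add]
    congr 1
    rw [hqd]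
    ring
  rw [h7, mul_assoc, ← mul_pow, h5, one_pow, mul_one]

variable [CharZero k] {H : X.Modules} (hH : CohB1.IsAmple H)

include hdim hH hf hbl in
/-- **Vanishing from a divisor with almost isolated multiplicity.** -/
theorem main {ω : X.Modules} (hω : ExtPow.IsExtPow 2 (Omega.sheaf (X ↘ Spec (CommRingCat.of k))) ω)
    {L : X.Modules} (hL : PicF.IsInvertible L)
    (hnef : ∀ C : X.IdealSheafData, IsCurve C → 0 ≤ degOn k X C (mk L hL))
    (hsq : 0 < dot k X (mk L hL) (mk L hL)) (s m q : ℕ) (hq : (s + 2) * m < q)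
    {I : X.IdealSheafData} (hI : BlowUp.IsEffCartierIdeal I) (hIL : mk L hL ^ m * ic I hI = 1)
    (hqx : stalkIdeal I x ≤ IsLocalRing.maximalIdeal (X.presheaf.stalk x) ^ q)
    (U : X.Opens) (hxU : x ∈ U)
    (hU : ∀ y : X, y ∈ U → y ≠ x → ∀ n : ℕ,
      stalkIdeal I y ≤ IsLocalRing.maximalIdeal (X.presheaf.stalk y) ^ n → (s + 2) * n < q) :
    Subsingleton (Coh.HH X (CohB1.tensorMod (ClSub.idealMod ((W4c2seshadripos.pointIdeal x hx) ^ (s + 1)))
        (CohB1.tensorMod L ω)) 1) := by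
  have hq0 : 0 < q := by omega
  have := proper k hdim hf hbl
  have hs := smooth k hdim hf hbl
  have := isIntegral k hdim hbl
  have hdY := dim_eq k hdim hf hbl
  have : Smooth (Y ↘ Spec (CommRingCat.of k)) := SmoothOfRelativeDimension.smooth 2 _
  have hsX : SmoothOfRelativeDimension 2 (X ↘ Spec (CommRingCat.of k)) := K801.SmDim.relDim_of_smooth k X 2 hdim
  obtain ⟨HY, hHY⟩ := exists_ample k hdim hbl H hH
  have hnoeth : IsNoetherian Y := Fga.IntAdd.isNoetherian k Y
  have hregY : ∀ y : Y, IsRegularLocalRing (Y.presheaf.stalk y) := fun y => S1535.result k Y y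
  obtain ⟨r, C, a, d, hC, hE, hinj, hsplit, hd, hxa, hle⟩ := exists_split_mod k hdim (hx := hx) hI s q hq0 hqx
    (ptBlow k hdim hbl).dim U hxU hU
  have hNE := isEff_cyc hE a
  have hDE := isEff_cyc hE d
  have hDE' := Divis.BlowUpFormal.isEff_comap_of_isBlowUp hbl hDE
  -- the divisor on `Y`
  have hle' : (cyc C d).comap f ≤ BlowUp.exceptional f (W4c2seshadripos.pointIdeal x hx) ^ (q * (s + 2)) := by
    rw [BlowUp.exceptional, ← Divis.IdealComap.comap_pow]
    exact Scheme.IdealSheafData.comap_mono f hle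
  obtain ⟨DY, hDYE, hDY⟩ := Divis.ColonIdeal.exists_mul_eq (isEff_pow hbl.1 (q * (s + 2))) hDE' hle'
  obtain ⟨r', C', δ, hC', hinj', -, hcyc'⟩ := K464.Comp.exists_eq_cyc k (Y ↘ Spec (CommRingCat.of k)) hdY hregY DY hDYE
  have hE' : ∀ i, BlowUp.IsEffCartierIdeal (C' i) := fun i => isEff_of_smooth k hdY (hC' i)
  have hlt := lt_of_ne k hdim hf hbl hC hE hinj hq0 hd (q * (s + 2)) hDY hC' hinj' hcyc'
  obtain ⟨c, hc⟩ := exists_pow_exc hinj' hlt
  -- the class
  have hLNi := Fdesc.LocGen.isInvertible_tensorMod hL (isInvertible_idealMod hNE)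
  obtain ⟨M, hM, hMe⟩ := exists_mk (pull f (mk L hL * ic _ hNE) * exc hbl ^ (s + 2 + c))
  obtain ⟨M', hM'i, hM'⟩ := K890.Polarized.exists_inverse hM
  have hclass : mk M hM ^ q * ic (cyc C' fun i => δ i % q) (isEff_cyc hE' _) =
      pull f (mk L hL) ^ (q - (s + 2) * m) := by
    rw [← hMe, map_mul]
    refine class_aux (pull f (mk L hL)) (pull f (ic _ hNE)) (exc hbl) _ (ic (cyc C' fun i => δ i / q) (isEff_cyc hE' _))
      (pull f (ic _ hDE)) (pull f (ic I hI)) q m s c hq ?_ ?_ ?_ ?_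
    · have e1 : ic (cyc C' fun i => δ i / q) (isEff_cyc hE' _) ^ q * ic (cyc C' fun i => δ i % q) (isEff_cyc hE' _) =
          ic DY hDYE := by
        rw [← ic_pow (isEff_cyc hE' _), ← ic_mul]
        refine ic_congr _ _ ?_
        rw [hcyc', ← cyc_nsmul, ← cyc_add]
        congr 1
        funext i
        simp only [Pi.smul_apply, Pi.add_apply, smul_eq_mul]
        exact Nat.div_add_mod _ _
      rw [e1, pull_ic f hDE hDE']
      have e2 : exc hbl ^ (q * (s + 2)) = ic _ (isEff_pow hbl.1 (q * (s + 2))) := (ic_pow hbl.1 _).symm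
      rw [e2, ← ic_mul]
      exact ic_congr _ _ hDY
    · have e3 : exc hbl ^ c = ic _ (isEff_pow hbl.1 c) := (ic_pow hbl.1 _).symm
      rw [e3]
      exact ic_congr _ _ hc
    · rw [← map_pow, ← map_mul, ← map_pow, ← ic_pow hNE, ← ic_mul (isEff_pow hNE q) hDE, ← ic_pow hI]
      exact congrArg _ (ic_congr _ _ hsplit.symm)
    · rw [← map_pow, ← map_mul, hIL, map_one]
  have hp0 : 0 < q - (s + 2) * m := by omega
  have h0 : Subsingleton (Coh.HH Y M' 1) := by
    refine K671.NefBig.vanish (k := k) hdY hHY hC' hE' hinj' hq0 (δ := fun i => δ i % q)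
      (fun i => Nat.mod_lt _ hq0) hM hM' hclass ?_ ?_
    · intro D hD
      rw [degOn_pow k hD]
      exact mul_nonneg (by positivity) (nef_pull k hdim hf hbl hL hnef D hD)
    · have h8 := dot_exc k hdim hf hbl (mk L hL) (mk L hL) 0 0
      rw [pow_zero, mul_one, Nat.cast_zero, mul_zero, sub_zero] at h8
      rw [dot_pow_left k Y hdY.le, dot_pow_right k Y hdY.le, h8]
      have h9 : (0 : ℤ) < ((q - (s + 2) * m : ℕ) : ℤ) := by exact_mod_cast hp0
      positivity
  -- back to `X`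
  have h1 := h1_ideal_of k hdim hf hbl hω hLNi (s + 1 + c) (M' := M') hM (by
    rw [← hMe, ← mk_mul_mk hL (isInvertible_idealMod hNE)]
    have : s + 1 + c + 1 = s + 2 + c := by omega
    rw [this]
    rfl) hM' h0
  have hωi := K455.Canon.isInvertible (X ↘ Spec (CommRingCat.of k)) 2 hω
  have hF := Fdesc.LocGen.isInvertible_tensorMod hL hωi
  have hF' := Fdesc.LocGen.isInvertible_tensorMod (isInvertible_idealMod hNE) hF
  have hpt : PicF.IsInvertible (CohB1.tensorMod (CohB1.tensorMod L (ClSub.idealMod (cyc C a))) ω) :=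
    Fdesc.LocGen.isInvertible_tensorMod hLNi hωi
  obtain ⟨e⟩ : Nonempty (CohB1.tensorMod (CohB1.tensorMod L (ClSub.idealMod (cyc C a))) ω ≅
      CohB1.tensorMod (ClSub.idealMod (cyc C a)) (CohB1.tensorMod L ω)) := by
    rw [← mk_eq_iff hpt hF', ← mk_mul_mk hLNi hωi, ← mk_mul_mk hL (isInvertible_idealMod hNE),
      ← mk_mul_mk (isInvertible_idealMod hNE) hF, ← mk_mul_mk hL hωi]
    ac_rfl
  have h2 : W4c2seshadripos.SeparatesJets (CohB1.tensorMod (ClSub.idealMod (cyc C a)) (CohB1.tensorMod L ω)) x hx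
      (s + c) := by
    refine K671.JetCrit.surjective_resH (hasBases_of_inv hF') _ ?_
    have h3 := Fga.HShift.subsingleton_of_iso (Ega2.Tens.mapTIso (Iso.refl _) e ≪≫ Ega2.Tens.swap _ _) 1 h1
    have h4 : s + 1 + c = s + c + 1 := by omega
    rw [h4] at h3
    exact h3
  have h5 := separatesJets_mono (Nat.le_add_right s c)
    (separatesJets_of_surjective _ (stalkLin_mu_surjective (cyc C a) hF hxa) h2)
  have h6 : Subsingleton (Coh.HH X (CohB1.tensorMod L ω) 1) :=
    Fga.HShift.subsingleton_of_iso (Ega2.Tens.swap _ _) 1 (K671.NefVan.h1_canon (k := k) hdim hH hω hL hsq hnef)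
  have h7 := K671.JetCrit.subsingleton_of_surjective (hasBases_of_inv hF)
    (W4c2seshadripos.pointIdeal x hx ^ (s + 1)) h6 h5
  exact Fga.HShift.subsingleton_of_iso (Ega2.Tens.swap _ _) 1 h7

end K671.IsoMult
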