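import Groth.Agent.AdjLin.K671.JetMain
import Groth.Agent.AdjLin.K671.H0Up
import Groth.Agent.Surf.K457.BlowPt
import Groth.Agent.Flat2C.BlowExist

/-!
# Sections vanishing at a point of a surface

`h0_pt`: `2 h⁰(M) ≤ 2 h⁰(M ⊗ m_x^N) + N (N + 1)`.
-/

set_option autoImplicit false
universe u
open CategoryTheory CategoryTheory.Limits AlgebraicGeometry TopologicalSpace

namespace K671.JetCount

open Groth.Agent Groth.Agent.Grpsch.PicGrp K464.Base K464.Curves K464.Cohom K671.BlowPow K671.BlowSurf K671.JetMain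
  Groth.Agent.Dix.IdealModCartier Groth.Agent.Divis.EffCartier

variable (k : Type u) [Field k] [IsAlgClosed k] {X Y : Scheme.{u}} [X.Over (Spec (CommRingCat.of k))]
  [Y.Over (Spec (CommRingCat.of k))] [IsProper (X ↘ Spec (CommRingCat.of k))]
  [Smooth (X ↘ Spec (CommRingCat.of k))] [IsIntegral X] (hdim : topologicalKrullDim X = 2)
  {x : X} {hx : IsClosed ({x} : Set X)} {f : Y ⟶ X}
  (hf : f ≫ (X ↘ Spec (CommRingCat.of k)) = Y ↘ Spec (CommRingCat.of k))
  (hbl : BlowUp.IsBlowUp f (W4c2seshadripos.pointIdeal x hx))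

include hdim hf hbl in
/-- One step on the blow-up. -/
theorem step {M : X.Modules} (hM : PicF.IsInvertible M) (n : ℕ) :
    Module.finrank k (Coh.HH Y (CohB1.tensorMod ((Scheme.Modules.pullback f).obj M)
        (ClSub.idealMod (BlowUp.exceptional f (W4c2seshadripos.pointIdeal x hx) ^ n))) 0) ≤
      Module.finrank k (Coh.HH Y (CohB1.tensorMod ((Scheme.Modules.pullback f).obj M)
        (ClSub.idealMod (BlowUp.exceptional f (W4c2seshadripos.pointIdeal x hx) ^ (n + 1)))) 0) + (n + 1) := by
  have := proper k hdim hf hbl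
  have hnoeth : IsNoetherian X := Fga.IntAdd.isNoetherian k X
  have hreg : ∀ x : X, IsRegularLocalRing (X.presheaf.stalk x) := fun x => S1535.result k X x
  obtain ⟨hEc, -⟩ := K457.BlowPt.exists_iso k hdim hreg x hx f hbl hf
  have hEc' : IsCurve (BlowUp.exceptional f (W4c2seshadripos.pointIdeal x hx)) := hEc
  have hd := (dim_eq k hdim hf hbl).le
  have hE : BlowUp.IsEffCartierIdeal (BlowUp.exceptional f (W4c2seshadripos.pointIdeal x hx)) := hbl.1
  have hfM := Fdesc.LocGen.isInvertible_pullback f hM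
  have hP := Fdesc.LocGen.isInvertible_tensorMod hfM (isInvertible_idealMod (isEff_pow hE n))
  have hcl : mk _ hP = pull f (mk M hM) * exc hbl ^ n := by
    rw [← mk_mul_mk hfM (isInvertible_idealMod (isEff_pow hE n))]
    change pull f (mk M hM) * ic _ (isEff_pow hE n) = _
    rw [ic_pow hE]
    rfl
  have hdeg : degOn k Y (BlowUp.exceptional f (W4c2seshadripos.pointIdeal x hx)) (mk _ hP) = n := by
    have h1 := dot_exc k hdim hf hbl 1 (mk M hM) 1 n
    rw [map_one, one_mul, pow_one, dot_one_left] at h1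
    rw [degOn_eq_neg_dot k Y hE, hcl]
    change - dot k Y (exc hbl) _ = _
    rw [h1]
    push_cast
    ring
  have h1 := K671.H0Up.h0_le_add k hP hE
  have h2 := K671.H0Up.h0_curve_le k hEc' hP (by rw [hdeg]; positivity)
  rw [hdeg] at h2
  have h3 : Module.finrank k (Coh.HH Y (CohB1.tensorMod (CohB1.tensorMod ((Scheme.Modules.pullback f).obj M)
        (ClSub.idealMod (BlowUp.exceptional f (W4c2seshadripos.pointIdeal x hx) ^ n)))
        (ClSub.idealMod (BlowUp.exceptional f (W4c2seshadripos.pointIdeal x hx)))) 0) =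
      Module.finrank k (Coh.HH Y (CohB1.tensorMod ((Scheme.Modules.pullback f).obj M)
        (ClSub.idealMod (BlowUp.exceptional f (W4c2seshadripos.pointIdeal x hx) ^ (n + 1)))) 0) := by
    obtain ⟨e⟩ : Nonempty (CohB1.tensorMod (CohB1.tensorMod ((Scheme.Modules.pullback f).obj M)
        (ClSub.idealMod (BlowUp.exceptional f (W4c2seshadripos.pointIdeal x hx) ^ n)))
        (ClSub.idealMod (BlowUp.exceptional f (W4c2seshadripos.pointIdeal x hx))) ≅
        CohB1.tensorMod ((Scheme.Modules.pullback f).obj M)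
          (ClSub.idealMod (BlowUp.exceptional f (W4c2seshadripos.pointIdeal x hx) ^ (n + 1)))) := by
      rw [← mk_eq_iff (Fdesc.LocGen.isInvertible_tensorMod hP (isInvertible_idealMod hE))
        (Fdesc.LocGen.isInvertible_tensorMod hfM (isInvertible_idealMod (isEff_pow hE (n + 1)))),
        ← mk_mul_mk hP (isInvertible_idealMod hE), ← mk_mul_mk hfM (isInvertible_idealMod (isEff_pow hE (n + 1))), hcl]
      change _ * exc hbl = pull f (mk M hM) * ic _ (isEff_pow hE (n + 1))
      rw [ic_pow hE, pow_succ (ic _ hE), ← mul_assoc]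
      rfl
    exact finrank_congr k e 0
  rw [h3] at h1
  have h4 : Module.finrank k (Coh.HH Y (CohB1.tensorMod
      (ClSub.quotMod (BlowUp.exceptional f (W4c2seshadripos.pointIdeal x hx)))
      (CohB1.tensorMod ((Scheme.Modules.pullback f).obj M)
        (ClSub.idealMod (BlowUp.exceptional f (W4c2seshadripos.pointIdeal x hx) ^ n)))) 0) ≤ n + 1 := by
    exact_mod_cast h2
  omega

omit [Y.Over (Spec (CommRingCat.of k))] in
include hdim in
/-- **Sections vanishing at a point.** -/
theorem h0_pt {M : X.Modules} (hM : PicF.IsInvertible M) (x : X) (hx : IsClosed ({x} : Set X)) (N : ℕ) :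
    2 * Module.finrank k (Coh.HH X M 0) ≤
      2 * Module.finrank k (Coh.HH X (CohB1.tensorMod (ClSub.idealMod (W4c2seshadripos.pointIdeal x hx ^ N)) M) 0) +
        N * (N + 1) := by
  obtain ⟨Y, f, hbl⟩ := Groth.Agent.Flat2C.BlowExist.exists_isBlowUp (W4c2seshadripos.pointIdeal x hx)
  let _ : Y.Over (Spec (CommRingCat.of k)) := ⟨f ≫ (X ↘ Spec (CommRingCat.of k))⟩
  have hf : f ≫ (X ↘ Spec (CommRingCat.of k)) = Y ↘ Spec (CommRingCat.of k) := rfl
  have := isIntegral k hdim hbl
  have heq : ∀ n, Module.finrank k (Coh.HH Y (CohB1.tensorMod ((Scheme.Modules.pullback f).obj M)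
        (ClSub.idealMod (BlowUp.exceptional f (W4c2seshadripos.pointIdeal x hx) ^ n))) 0) =
      Module.finrank k (Coh.HH X (CohB1.tensorMod (ClSub.idealMod (W4c2seshadripos.pointIdeal x hx ^ n)) M) 0) := by
    intro n
    obtain ⟨e⟩ := (ptBlow k hdim hbl).nonempty_equiv hM n k hf 0
    rw [e.finrank_eq]
    exact finrank_congr k (Ega2.Tens.swap _ _) 0
  induction N with
  | zero =>
    have h1 : Module.finrank k (Coh.HH X
        (CohB1.tensorMod (ClSub.idealMod (W4c2seshadripos.pointIdeal x hx ^ 0)) M) 0) =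
        Module.finrank k (Coh.HH X M 0) := by
      have h0 : BlowUp.IsEffCartierIdeal (W4c2seshadripos.pointIdeal x hx ^ 0) := by
        rw [pow_zero]
        exact isEff_one
      obtain ⟨e⟩ : Nonempty (CohB1.tensorMod (ClSub.idealMod (W4c2seshadripos.pointIdeal x hx ^ 0)) M ≅ M) := by
        rw [← mk_eq_iff (Fdesc.LocGen.isInvertible_tensorMod (isInvertible_idealMod h0) hM) hM,
          ← mk_mul_mk (isInvertible_idealMod h0) hM]
        change ic _ h0 * _ = _
        rw [ic_congr h0 isEff_one (pow_zero _), ic_one, one_mul]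
      exact finrank_congr k e 0
    rw [h1]
    omega
  | succ n ih =>
    have h1 := step k hdim hf hbl hM n
    rw [heq, heq] at h1
    have h2 : (n + 1) * (n + 1 + 1) = n * (n + 1) + 2 * (n + 1) := by ring
    rw [h2]
    omega

end K671.JetCount
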