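import Groth.Agent.AdjLin.K801.Core
import Groth.Agent.Surf.K461.SerreDual

/-!
# Vanishing of `H^1` for nef and big classes on a surface in characteristic zero

* `h1_inv`: `M` nef, `M² > 0`, then `H^1(X, M^{-1}) = 0`.
* `h1_canon`: `M` nef, `M² > 0`, then `H^1(X, ω ⊗ M) = 0`.
-/

set_option autoImplicit false
universe u
open CategoryTheory CategoryTheory.Limits AlgebraicGeometry

namespace K671.NefVan

open Groth.Agent Groth.Agent.Grpsch.PicGrp K464.Base K464.Curves K464.Comp K801.DotForm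

variable {k : Type u} [Field k] [IsAlgClosed k] [CharZero k] {X : Scheme.{u}}
  [X.Over (Spec (CommRingCat.of k))] [IsProper (X ↘ Spec (CommRingCat.of k))]
  [Smooth (X ↘ Spec (CommRingCat.of k))] [IsIntegral X] (hdim : topologicalKrullDim X = 2)
  {H : X.Modules} (hH : CohB1.IsAmple H)

omit [IsAlgClosed k] [CharZero k] [Smooth (X ↘ Spec (CommRingCat.of k))] [IsIntegral X] in
theorem dot_sq (hd : topologicalKrullDim X ≤ (2 : ℕ)) (c e : Pic X) (t : ℤ) : dot k X (c * e ^ t) (c * e ^ t) =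
    dot k X c c + 2 * t * dot k X e c + t ^ 2 * dot k X e e := by
  rw [dot_mul_right k X hd, dot_mul_left k X hd, dot_mul_left k X hd]
  simp only [dot_zpow_right k X hd, dot_zpow_left k X hd]
  rw [dot_comm k X c e]
  ring

include hdim in
omit [IsAlgClosed k] [CharZero k] in
theorem dot_ic_nonpos {a : Pic X} (hnef : ∀ C : X.IdealSheafData, IsCurve C → 0 ≤ degOn k X C a)
    {U : X.IdealSheafData} (hU : BlowUp.IsEffCartierIdeal U) : dot k X a (ic U hU) ≤ 0 := by
  have h := degOn_nonneg_of_forall k hdim hnef hU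
  rw [degOn_eq_neg_dot k X hU, dot_comm] at h
  linarith

include hdim hH

omit [IsAlgClosed k] [CharZero k] in
theorem dot_pos_of_nef {a : Pic X} (hsq : 0 < dot k X a a)
    (hnef : ∀ C : X.IdealSheafData, IsCurve C → 0 ≤ degOn k X C a) : 0 < dot k X a (mk H hH.1) := by
  have hHH := dot_ample_pos (k := k) hdim hH
  obtain ⟨N, hN⟩ := exists_section (k := k) hdim hH hH.1 hHH hHH.le
  obtain ⟨D, hD, hDe⟩ := hN (N + 1) (Nat.le_succ N)
  have h1 : 0 ≤ ((N + 1 : ℕ) : ℤ) * dot k X a (mk H hH.1) := by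
    rw [← dot_pow_right k X hdim.le, hDe, dot_inv_right k X hdim.le]
    have := dot_ic_nonpos (k := k) hdim hnef hD
    linarith
  have h2 : 0 ≤ dot k X a (mk H hH.1) := by
    by_contra h
    push Not at h
    have h3 : (0 : ℤ) < ((N + 1 : ℕ) : ℤ) := by positivity
    have := mul_neg_of_pos_of_neg h3 h
    linarith
  have h4 := hodge_ineq (k := k) hdim hH hsq (mk H hH.1)
  have h5 := mul_pos hsq hHH
  refine lt_of_le_of_ne h2 fun h => ?_
  rw [← h] at h4
  norm_num at h4
  linarith

/-- `H^1(X, M^{-1}) = 0` for `M` nef with `M² > 0`. -/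
theorem h1_inv {M M' : X.Modules} (hM : PicF.IsInvertible M) (hM' : ClSub.IsInverseOf M' M)
    (hsq : 0 < dot k X (mk M hM) (mk M hM))
    (hnef : ∀ C : X.IdealSheafData, IsCurve C → 0 ≤ degOn k X C (mk M hM)) :
    Subsingleton (Coh.HH X M' 1) := by
  by_contra hne
  have hd := hdim.le
  obtain ⟨U, hU, p, hUt, h1, -, hpp, -, hpU⟩ :=
    K801.Core.main hdim hH hM hM' hsq (dot_pos_of_nef hdim hH hsq hnef) hne
  have h2 := dot_ic_nonpos (k := k) hdim hnef hU
  rw [dot_mul_left k X hd] at h1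
  have h3 := hodge (k := k) hdim hH hpp hpU
  have h4 : dot k X (ic U hU) (ic U hU) = 0 := by linarith
  set e := ic U hU with he
  set h := mk H hH.1 with hh
  have h5 : dot k X e h < 0 := by
    have h6 := degOn_pos_of_ample_eff k hdim hH.1 hH hU hUt
    rw [degOn_eq_neg_dot k X hU] at h6
    linarith
  -- the class `c = h^(p²) p^(-(p·h))` orthogonal to `p`
  set c := h ^ dot k X p p * p ^ (-dot k X p h) with hc
  have hpc : dot k X p c = 0 := by
    rw [hc, dot_mul_right k X hd, dot_zpow_right k X hd, dot_zpow_right k X hd]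
    ring
  have hec : dot k X e c = dot k X p p * dot k X e h := by
    rw [hc, dot_mul_right k X hd, dot_zpow_right k X hd, dot_zpow_right k X hd, dot_comm k X e p, hpU]
    ring
  have hw : dot k X e c ≤ -1 := by
    rw [hec]
    have h7 : dot k X e h ≤ -1 := by linarith
    have h8 : 1 ≤ dot k X p p := hpp
    nlinarith
  have key : ∀ t : ℤ, dot k X c c + 2 * t * dot k X e c ≤ 0 := by
    intro t
    have h9 := hodge (k := k) hdim hH (a := p) (b := c * e ^ t) hpp (by
      rw [dot_mul_right k X hd, dot_zpow_right k X hd, hpc, hpU]; ring)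
    rw [dot_sq hd, h4, mul_zero, add_zero] at h9
    exact h9
  have h10 := key (-(|dot k X c c| + 1))
  have h11 := abs_nonneg (dot k X c c)
  have h12 := neg_abs_le (dot k X c c)
  nlinarith

omit hdim hH in
omit [CharZero k] [Smooth (X ↘ Spec (CommRingCat.of k))] [IsIntegral X] [IsAlgClosed k] in
theorem canon_of_inv [SmoothOfRelativeDimension 2 (X ↘ Spec (CommRingCat.of k))] {ω : X.Modules}
    (hω : ExtPow.IsExtPow 2 (Omega.sheaf (X ↘ Spec (CommRingCat.of k))) ω) {M M' : X.Modules}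
    (hM' : ClSub.IsInverseOf M' M) (h0 : Subsingleton (Coh.HH X M' 1)) :
    Subsingleton (Coh.HH X (CohB1.tensorMod ω M) 1) := by
  obtain ⟨e⟩ := K461.SerreDual.nonempty_dual_equiv k 2 hω hM'
    (Groth.Agent.Ega2.QCohLocal.isQCoh_of_isInvertible (Dix.IdealModCartier.isInvertible_of_isInverseOf hM').1) 1 1 rfl
  have h4 : Subsingleton (Module.Dual k (Coh.HH X M' 1)) :=
    ⟨fun f g => LinearMap.ext fun x => by rw [Subsingleton.elim x 0, map_zero, map_zero]⟩
  exact e.symm.toEquiv.subsingleton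

/-- `H^1(X, ω ⊗ M) = 0` for `M` nef with `M² > 0`. -/
theorem h1_canon [SmoothOfRelativeDimension 2 (X ↘ Spec (CommRingCat.of k))] {ω : X.Modules}
    (hω : ExtPow.IsExtPow 2 (Omega.sheaf (X ↘ Spec (CommRingCat.of k))) ω) {M : X.Modules}
    (hM : PicF.IsInvertible M) (hsq : 0 < dot k X (mk M hM) (mk M hM))
    (hnef : ∀ C : X.IdealSheafData, IsCurve C → 0 ≤ degOn k X C (mk M hM)) :
    Subsingleton (Coh.HH X (CohB1.tensorMod ω M) 1) := by
  obtain ⟨M', hM'i, hM'⟩ := K890.Polarized.exists_inverse hM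
  exact canon_of_inv hω hM' (h1_inv hdim hH hM hM' hsq hnef)

end K671.NefVan
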