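import Groth.Agent.Surf.K455.Growth
import Groth.Agent.AdjLin.K671.NefVan
import Groth.Agent.AdjLin.K671.JetCount
import Groth.Agent.AdjLin.K671.SecDiv

/-!
# Sections of powers of a nef and big class vanishing at a point

* `lower`: `2 h⁰(L^m) ≥ (L²) m² - c m`.
* `lower_pt`: `2 dim {σ ∈ H⁰(L^m) | ord_x σ ≥ m N} ≥ ((L²) - N²) m² - c m`.
-/

set_option autoImplicit false
universe u
open CategoryTheory CategoryTheory.Limits AlgebraicGeometry TopologicalSpace

namespace K671.LowerBd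

open Groth.Agent Groth.Agent.Grpsch.PicGrp K464.Base K464.Curves K464.Cohom Groth.Agent.Fga.PicMon
  Groth.Agent.Dix.IdealModCartier K671.SecDiv K801.DotForm

variable (k : Type u) [Field k] [IsAlgClosed k] {X : Scheme.{u}} [X.Over (Spec (CommRingCat.of k))]
  [IsProper (X ↘ Spec (CommRingCat.of k))] [Smooth (X ↘ Spec (CommRingCat.of k))] [IsIntegral X]
  (hdim : topologicalKrullDim X = 2) {H : X.Modules} (hH : CohB1.IsAmple H)
  {L : X.Modules} (hL : PicF.IsInvertible L)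
  (hnef : ∀ C : X.IdealSheafData, IsCurve C → 0 ≤ degOn k X C (mk L hL))
  (hsq : 0 < dot k X (mk L hL) (mk L hL))

include hdim hH hnef hsq

omit [IsAlgClosed k] in
theorem lower : ∃ (N : ℕ) (c : ℤ), 0 ≤ c ∧ ∀ m : ℕ, N ≤ m →
    dot k X (mk L hL) (mk L hL) * (m : ℤ) ^ 2 - c * m ≤
      2 * Module.finrank k (Coh.HH X (CohB1.tensorPow L m) 0) := by
  have hLH := K671.NefVan.dot_pos_of_nef (k := k) hdim hH hsq hnef
  obtain ⟨N, K, hN⟩ := K465.Hodge2.exists_sections k hdim.le hdim hH hL (by rw [ip_dot]; exact hsq)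
    (by rw [ip_dot]; exact hLH.le)
  set a := dot k X (mk L hL) (mk L hL) with ha
  set x₁ : ℤ := K455.RR.χ k X 1 with hx₁
  set x₂ : ℤ := K455.RR.χ k X (mc L) with hx₂
  refine ⟨N + 1, |a| + 2 * |x₂ - x₁| + 2 * |x₁| + 2 * |K|, by positivity, fun m hm => ?_⟩
  obtain ⟨-, h1⟩ := hN m (by omega)
  have h2 := K455.Growth.two_mul_euler_pow k hdim.le hL m
  rw [← mc_tensorPow, K455.RR.χ_mc, intNum_eq_dot k X hdim.le hL hL] at h2
  have h3 : (1 : ℤ) ≤ m := by exact_mod_cast (by omega : 1 ≤ m)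
  have e1 := neg_abs_le x₁
  have e2 := neg_abs_le (x₂ - x₁)
  have e3 := le_abs_self K
  have e4 := le_abs_self a
  have p1 : |x₁| * 1 ≤ |x₁| * m := mul_le_mul_of_nonneg_left h3 (abs_nonneg _)
  have p3 : |K| * 1 ≤ |K| * m := mul_le_mul_of_nonneg_left h3 (abs_nonneg _)
  have p2 : -|x₂ - x₁| * m ≤ (x₂ - x₁) * m := mul_le_mul_of_nonneg_right e2 (by linarith)
  have p4 : a * m ≤ |a| * m := mul_le_mul_of_nonneg_right e4 (by linarith)
  nlinarith

/-- **Sections vanishing at a point.** -/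
theorem lower_pt (x : X) (hx : IsClosed ({x} : Set X)) (s : ℕ) : ∃ (N : ℕ) (c : ℤ), 0 ≤ c ∧ ∀ m : ℕ, N ≤ m →
    (dot k X (mk L hL) (mk L hL) - (s : ℤ) ^ 2) * (m : ℤ) ^ 2 - c * m ≤
      2 * Module.finrank k (W k (CohB1.tensorPow L m) (W4c2seshadripos.pointIdeal x hx ^ (m * s))) := by
  obtain ⟨N, c, hc, h⟩ := lower k hdim hH hL hnef hsq
  refine ⟨N, c + s, by positivity, fun m hm => ?_⟩
  have hLm := Fdesc.LocGen.isInvertible_tensorPow hL m
  have h1 := h m hm
  have h2 := K671.JetCount.h0_pt k hdim hLm x hx (m * s)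
  rw [finrank_W hLm]
  have h3 : (2 : ℤ) * Module.finrank k (Coh.HH X (CohB1.tensorPow L m) 0) ≤
      2 * Module.finrank k (Coh.HH X (CohB1.tensorMod
        (ClSub.idealMod (W4c2seshadripos.pointIdeal x hx ^ (m * s))) (CohB1.tensorPow L m)) 0) +
        (m * s) * (m * s + 1) := by exact_mod_cast h2
  nlinarith

end K671.LowerBd
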