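import Groth.Agent.AdjLin.K671.OrdC
import Groth.Agent.AdjLin.K671.BlowPow
import Groth.Agent.Curves.K327.G0Points
import Groth.Agent.Ega2.RegLow

/-!
# Multiplicities near a point

`exists_nbhd`: if an effective divisor on a smooth surface has multiplicity `< N` along all curves through `x`, then
its multiplicity is `< N` at all points `≠ x` of a neighbourhood of `x`.
-/

set_option autoImplicit false
universe u
open CategoryTheory CategoryTheory.Limits AlgebraicGeometry TopologicalSpace

namespace K671.Nbhd

open Groth.Agent Groth.Agent.Divis.CartierBasic Groth.Agent.Divis.EffCartier K464.Base K464.Curves K464.DivLat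
  K671.Mult K671.OrdC

section Ring

open Polynomial

/-- In a local ring with maximal ideal `(c, d)`, `(c)` prime: `c ^ a ∈ m ^ n` implies `n ≤ a`. -/
theorem le_of_pow_mem {R : Type u} [CommRing R] [IsLocalRing R] {c d : R}
    (hm : IsLocalRing.maximalIdeal R = Ideal.span {c, d}) (hc : c ∈ nonZeroDivisors R)
    (hp : (Ideal.span {c} : Ideal R).IsPrime) (a : ℕ) :
    ∀ n : ℕ, c ^ a ∈ IsLocalRing.maximalIdeal R ^ n → n ≤ a := by
  have hcm : c ∈ IsLocalRing.maximalIdeal R := by rw [hm]; exact Ideal.subset_span (by simp)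
  have hdm : d ∈ IsLocalRing.maximalIdeal R := by rw [hm]; exact Ideal.subset_span (by simp)
  induction a with
  | zero =>
    intro n h
    by_contra hn
    have hn' : n ≠ 0 := by omega
    rw [pow_zero] at h
    exact (IsLocalRing.maximalIdeal.isMaximal R).ne_top ((Ideal.eq_top_iff_one _).2 (Ideal.pow_le_self hn' h))
  | succ a ih =>
    intro n h
    obtain rfl | ⟨b, rfl⟩ : n = 0 ∨ ∃ b, n = b + 1 := by
      rcases n with _ | b
      · exact Or.inl rfl
      · exact Or.inr ⟨b, rfl⟩
    · exact Nat.zero_le _
    by_cases hd : d ∈ (Ideal.span {c} : Ideal R)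
    · have hm' : IsLocalRing.maximalIdeal R = Ideal.span {c} := by
        rw [hm]
        apply le_antisymm
        · rw [Ideal.span_le]
          rintro z (rfl | rfl)
          · exact Ideal.mem_span_singleton_self _
          · exact hd
        · exact Ideal.span_mono (by simp)
      rw [hm'] at h
      refine le_of_pow_le_pow hc (fun hu => ?_) (n := a + 1) (m := b + 1) ?_
      · exact (IsLocalRing.mem_maximalIdeal c).1 hcm hu
      · rw [Ideal.span_singleton_pow c (a + 1), Ideal.span_singleton_le_iff_mem]
        exact h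
    · rw [hm] at h
      obtain ⟨P, -, hP⟩ := K671.BlowPow.exists_coeffs (b + 1) _ h
      rw [Finset.sum_range_succ] at hP
      have h1 : ∀ i ∈ Finset.range (b + 1), P.coeff i * (c ^ (b + 1 - i) * d ^ i) =
          c * (P.coeff i * (c ^ (b - i) * d ^ i)) := by
        intro i hi
        have hi' : i ≤ b := Nat.lt_succ_iff.1 (Finset.mem_range.1 hi)
        have h3 : b + 1 - i = (b - i) + 1 := by omega
        rw [h3, pow_succ]
        ring
      rw [Finset.sum_congr rfl h1, ← Finset.mul_sum, Nat.sub_self, pow_zero, one_mul] at hP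
      set S := ∑ i ∈ Finset.range (b + 1), P.coeff i * (c ^ (b - i) * d ^ i) with hS
      have hSm : S ∈ IsLocalRing.maximalIdeal R ^ b := by
        rw [hS]
        refine sum_mem fun i hi => Ideal.mul_mem_left _ _ ?_
        have hi' : i ≤ b := Nat.lt_succ_iff.1 (Finset.mem_range.1 hi)
        have h4 : IsLocalRing.maximalIdeal R ^ b = IsLocalRing.maximalIdeal R ^ (b - i) * IsLocalRing.maximalIdeal R ^ i := by
          rw [← pow_add, Nat.sub_add_cancel hi']
        rw [h4]
        exact Ideal.mul_mem_mul (Ideal.pow_mem_pow hcm _) (Ideal.pow_mem_pow hdm _)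
      have h2 : P.coeff (b + 1) * d ^ (b + 1) ∈ (Ideal.span {c} : Ideal R) := by
        rw [Ideal.mem_span_singleton]
        exact ⟨c ^ a - S, by rw [mul_sub, ← pow_succ', hP]; ring⟩
      rcases hp.mem_or_mem h2 with h3 | h3
      · obtain ⟨w, hw⟩ := Ideal.mem_span_singleton.1 h3
        have h4 : c * (c ^ a) = c * (S + w * d ^ (b + 1)) := by
          rw [← pow_succ', hP, hw]; ring
        have h5 := (mul_cancel_left_mem_nonZeroDivisors hc).1 h4
        have h6 : c ^ a ∈ IsLocalRing.maximalIdeal R ^ b := by
          rw [h5]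
          refine add_mem hSm (Ideal.mul_mem_left _ _ ?_)
          exact Ideal.pow_le_pow_right (Nat.le_succ b) (Ideal.pow_mem_pow hdm _)
        have := ih b h6
        omega
      · exact absurd (hp.mem_of_pow_mem _ h3) hd

end Ring

section

variable {k : Type u} [Field k] {X : Scheme.{u}} (f : X ⟶ Spec (CommRingCat.of k)) [LocallyOfFiniteType f]
  [IsIntegral X] (hdim : topologicalKrullDim X = 2)

include hdim in
omit [IsIntegral X] in
theorem isClosed_of_coheight {y : X} (hy : 2 ≤ Order.coheight y) : IsClosed ({y} : Set X) := by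
  have h : closure ({y} : Set X) = {y} := by
    refine Set.Subset.antisymm (fun z hz => ?_) subset_closure
    by_contra hne
    have h1 : y ⤳ z := specializes_iff_mem_closure.2 hz
    have h2 := Order.coheight_add_one_le (Dix.BlowIrr.lt_of_specializes h1 hne)
    have h3 := ringKrullDim_stalk_le hdim.le z
    rw [ringKrullDim_stalk_eq_coheight] at h3
    have h4 : Order.coheight z ≤ 2 := (WithBot.coe_le_coe (a := Order.coheight z) (b := 2)).mp h3
    have h5 : (3 : ℕ∞) ≤ 2 := by
      calc (3 : ℕ∞) = 2 + 1 := by norm_num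
        _ ≤ Order.coheight y + 1 := by gcongr
        _ ≤ Order.coheight z := h2
        _ ≤ 2 := h4
    exact absurd h5 (by decide)
  rw [← h]
  exact isClosed_closure

include f hdim in
theorem isClosed_of_mem {C : X.IdealSheafData} (hC : IsCurve C) {y : X} (hy : y ∈ C.support) (hne : y ≠ gp hC) :
    IsClosed ({y} : Set X) := by
  refine isClosed_of_coheight hdim ?_
  have hsp : gp hC ⤳ y := by
    rw [specializes_iff_mem_closure, closure_gp hC]
    exact hy
  have hgC : gp hC ≠ genericPoint X := by
    intro hg
    have h2 := ringKrullDim_gp k f hdim hC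
    have h3 : Order.coheight (gp hC) = 0 := by
      rw [hg, Order.coheight_eq_zero]
      intro b _
      exact genericPoint_specializes b
    rw [ringKrullDim_stalk_eq_coheight, h3] at h2
    exact absurd h2 (by decide)
  exact Dix.BlowIrr.coheight_two (genericPoint_specializes (gp hC)) hsp hgC hne

end

section main

variable (k : Type u) [Field k] {X : Scheme.{u}} [X.Over (Spec (CommRingCat.of k))]
  [IsProper (X ↘ Spec (CommRingCat.of k))] [Smooth (X ↘ Spec (CommRingCat.of k))]
  [IsIntegral X] (hdim : topologicalKrullDim X = 2)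

include k hdim in
omit [Smooth (X ↘ Spec (CommRingCat.of k))] in
/-- Two distinct curves meet in finitely many points. -/
theorem finite_inter {C D : X.IdealSheafData} (hC : IsCurve C) (hD : IsCurve D) (hne : C ≠ D) :
    ((C.support : Set X) ∩ D.support).Finite := by
  have hnoeth : IsNoetherian X := Fga.IntAdd.isNoetherian k X
  have hc : IsClosed ((C.support : Set X) ∩ D.support) := C.support.isClosed.inter D.support.isClosed
  have hq : QuasiSober ((C.support : Set X) ∩ D.support : Set X) := hc.isClosedEmbedding_subtypeVal.quasiSober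
  refine VarietyA.FiniteSupport.finite hc ?_
  rw [CurvesB.SubH1.dim_nonpos_iff]
  intro a b hab
  have hab' : (a : X) ⤳ b := (subtype_specializes_iff _ _).mp hab
  have h1 : (a : X) ≠ gp hC := fun h => gp_notMem hC hD hne (h ▸ a.2.2)
  have h2 := isClosed_of_mem (X ↘ Spec (CommRingCat.of k)) hdim hC a.2.1 h1
  have h3 : (b : X) ∈ closure ({(a : X)} : Set X) := specializes_iff_mem_closure.1 hab'
  rw [h2.closure_eq] at h3
  exact Subtype.ext h3

include k hdim in
omit [Smooth (X ↘ Spec (CommRingCat.of k))] in
theorem finite_sing {C : X.IdealSheafData} (hC : IsCurve C) :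
    (C.subschemeι '' {z | ¬ IsRegularLocalRing (C.subscheme.presheaf.stalk z)}).Finite := by
  letI := overC k X C
  have := isProper_sub k X C
  have := hC.integral
  have hd : topologicalKrullDim C.subscheme = 1 := (dim_sub X C).trans hC.dim
  exact (Curves.K327.G0Points.finite_nonregular (k := k) (X := C.subscheme) hd).image _

include k hdim in
/-- **Multiplicities near a point.** -/
theorem exists_nbhd {I : X.IdealSheafData} [IsLocallyNoetherian X] (hI : BlowUp.IsEffCartierIdeal I) {N : ℕ} (hN : 1 ≤ N) (x : X)
    (hord : ∀ (C : X.IdealSheafData) (hC : IsCurve C) (hE : BlowUp.IsEffCartierIdeal C), x ∈ C.support →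
      ord hC hE hI < N) :
    ∃ U : X.Opens, x ∈ U ∧ ∀ y : X, y ∈ U → y ≠ x → ∀ n : ℕ,
      stalkIdeal I y ≤ IsLocalRing.maximalIdeal (X.presheaf.stalk y) ^ n → n < N := by
  classical
  have hnoeth : IsNoetherian X := Fga.IntAdd.isNoetherian k X
  obtain ⟨r, C, n, hC, hinj, -, hcyc⟩ := K464.Comp.exists_eq_cyc k (X ↘ Spec (CommRingCat.of k)) hdim
    (fun x => S1535.result k X x) I hI
  have hE : ∀ i, BlowUp.IsEffCartierIdeal (C i) := fun i => isEff_of_smooth k hdim (hC i)
  let S : Set X := ⋃ i, ((C i).subschemeι '' {z | ¬ IsRegularLocalRing ((C i).subscheme.presheaf.stalk z)} \ {gp (hC i)})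
  let T : Set X := ⋃ i, ⋃ j, ⋃ (_ : i ≠ j), ((C i).support : Set X) ∩ (C j).support
  have hSf : S.Finite := Set.finite_iUnion fun i => (finite_sing k hdim (hC i)).subset Set.sdiff_subset
  have hTf : T.Finite := Set.finite_iUnion fun i => Set.finite_iUnion fun j => Set.finite_iUnion fun h =>
    finite_inter k hdim (hC i) (hC j) (fun h' => h (hinj h'))
  have hSc : ∀ y ∈ S, IsClosed ({y} : Set X) := by
    intro y hy
    obtain ⟨i, ⟨z, hz, rfl⟩, hyg⟩ := Set.mem_iUnion.1 hy
    refine isClosed_of_mem (X ↘ Spec (CommRingCat.of k)) hdim (hC i) ?_ hyg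
    have : (C i).subschemeι z ∈ Set.range (C i).subschemeι := ⟨z, rfl⟩
    rwa [Scheme.IdealSheafData.range_subschemeι] at this
  have hTc : ∀ y ∈ T, IsClosed ({y} : Set X) := by
    intro y hy
    obtain ⟨i, hy⟩ := Set.mem_iUnion.1 hy
    obtain ⟨j, hy⟩ := Set.mem_iUnion.1 hy
    obtain ⟨hij, hy⟩ := Set.mem_iUnion.1 hy
    refine isClosed_of_mem (X ↘ Spec (CommRingCat.of k)) hdim (hC i) hy.1 fun h => ?_
    rw [h] at hy
    exact gp_notMem (hC i) (hC j) (fun h' => hij (hinj h')) hy.2
  let B : Set X := (S ∪ T) \ {x}
  have hBf : B.Finite := (hSf.union hTf).subset Set.sdiff_subset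
  have hBc : IsClosed B := by
    have h1 : B = ⋃ y ∈ B, {y} := (Set.biUnion_of_singleton B).symm
    rw [h1]
    exact hBf.isClosed_biUnion fun y hy => hy.1.elim (hSc y) (hTc y)
  let D : Set X := ⋃ i, ⋃ (_ : x ∉ (C i).support), ((C i).support : Set X)
  have hDc : IsClosed D := isClosed_iUnion_of_finite fun i => isClosed_iUnion_of_finite fun _ => (C i).support.isClosed
  refine ⟨⟨(B ∪ D)ᶜ, (hBc.union hDc).isOpen_compl⟩, ?_, ?_⟩
  · rintro (h | h)
    · exact h.2 rfl
    · obtain ⟨i, h⟩ := Set.mem_iUnion.1 h
      obtain ⟨hi, h⟩ := Set.mem_iUnion.1 h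
      exact hi h
  · intro y hy hyx m hm
    have hyB : y ∉ B := fun h => hy (Or.inl h)
    have hyD : y ∉ D := fun h => hy (Or.inr h)
    have hyST : y ∉ S ∪ T := fun h => hyB ⟨h, hyx⟩
    by_cases hyI : ∃ i, y ∈ (C i).support
    · obtain ⟨i, hi⟩ := hyI
      have hxi : x ∈ (C i).support := by
        by_contra h
        exact hyD (Set.mem_iUnion.2 ⟨i, Set.mem_iUnion.2 ⟨h, hi⟩⟩)
      have hj : ∀ j, j ≠ i → y ∉ (C j).support := fun j hji h =>
        hyST (Or.inr (Set.mem_iUnion.2 ⟨j, Set.mem_iUnion.2 ⟨i, Set.mem_iUnion.2 ⟨hji, h, hi⟩⟩⟩))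
      have hni : n i < N := by
        have h1 := hord (C i) (hC i) (hE i) hxi
        rwa [ord_congr (hC i) (hE i) hI (isEff_cyc hE n) hcyc, ord_cyc hC hE hinj] at h1
      refine lt_of_le_of_lt ?_ hni
      rw [hcyc, stalkIdeal_cyc hj] at hm
      obtain ⟨c, hc, hcs⟩ := exists_stalkIdeal_eq_span (hE i) y
      have := (hC i).integral
      have hp := Divis.StalkPrime.isPrime_stalkIdeal (C i) hi
      have hi' : y ∈ Set.range (C i).subschemeι := by
        rw [Scheme.IdealSheafData.range_subschemeι]; exact hi
      obtain ⟨z, rfl⟩ := hi'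
      -- the maximal ideal is generated by two elements
      have hd : ∃ d, IsLocalRing.maximalIdeal (X.presheaf.stalk ((C i).subschemeι z)) = Ideal.span {c, d} := by
        have hreg : IsRegularLocalRing ((C i).subscheme.presheaf.stalk z) := by
          by_contra hnr
          by_cases hg : (C i).subschemeι z = gp (hC i)
          · have hz : z = genericPoint (C i).subscheme := (C i).subschemeι.isClosedEmbedding.injective hg
            subst hz
            exact hnr (inferInstanceAs (IsRegularLocalRing (C i).subscheme.functionField))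
          · exact hyST (Or.inl (Set.mem_iUnion.2 ⟨i, ⟨z, hnr, rfl⟩, hg⟩))
        have hdz : ringKrullDim ((C i).subscheme.presheaf.stalk z) ≤ 1 := by
          have h1 : topologicalKrullDim (C i).subscheme = 1 := (dim_sub X (C i)).trans (hC i).dim
          rw [← h1, Dix.ContractSurf.topologicalKrullDim_eq (C i).subscheme]
          exact le_iSup (fun w : (C i).subscheme => ringKrullDim ((C i).subscheme.presheaf.stalk w)) z
        have hpr := Ega2.RegLow.isPrincipalIdealRing _ hdz
        obtain ⟨⟨d', hd'⟩⟩ := hpr.principal (IsLocalRing.maximalIdeal ((C i).subscheme.presheaf.stalk z))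
        obtain ⟨d, rfl⟩ := (C i).subschemeι.stalkMap_surjective z d'
        refine ⟨d, ?_⟩
        have hker : RingHom.ker ((C i).subschemeι.stalkMap z).hom = Ideal.span {c} := by
          rw [Divis.CartierStalk.ker_stalkMap, Scheme.IdealSheafData.ker_subschemeι, hcs]
        have hsurj : Function.Surjective ((C i).subschemeι.stalkMap z).hom := (C i).subschemeι.stalkMap_surjective z
        have h1 : (IsLocalRing.maximalIdeal ((C i).subscheme.presheaf.stalk z)).comap
            ((C i).subschemeι.stalkMap z).hom = IsLocalRing.maximalIdeal _ := IsLocalRing.maximalIdeal_comap _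
        rw [← h1, hd']
        have h2 : (Ideal.span {((C i).subschemeι.stalkMap z).hom d}) =
            (Ideal.span {d}).map ((C i).subschemeι.stalkMap z).hom := by
          rw [Ideal.map_span, Set.image_singleton]
        have h3 : (Submodule.span ((C i).subscheme.presheaf.stalk z) {((C i).subschemeι.stalkMap z).hom d}) =
          Ideal.span {((C i).subschemeι.stalkMap z).hom d} := rfl
        change Ideal.comap _ (Ideal.span {((C i).subschemeι.stalkMap z).hom d}) = _
        rw [h2, Ideal.comap_map_of_surjective _ hsurj, ← RingHom.ker_eq_comap_bot, hker, ← Ideal.span_union]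
        congr 1
        ext w
        simp [or_comm]
      obtain ⟨d, hd⟩ := hd
      rw [hcs] at hp hm
      refine le_of_pow_mem hd hc hp (n i) m (hm ?_)
      rw [Ideal.span_singleton_pow]
      exact Ideal.mem_span_singleton_self _
    · push Not at hyI
      have h1 : y ∉ I.support := by
        rw [hcyc]
        intro h
        obtain ⟨i, hi⟩ := Set.mem_iUnion.1 (support_cyc_subset n h)
        exact hyI i hi
      rw [(notMem_support_iff_stalkIdeal_eq_top _ _).1 h1, top_le_iff] at hm
      by_contra hlt
      have hm0 : m ≠ 0 := by omega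
      have h2 := Ideal.pow_le_self (I := IsLocalRing.maximalIdeal (X.presheaf.stalk y)) hm0
      rw [hm, top_le_iff] at h2
      exact (IsLocalRing.maximalIdeal.isMaximal _).ne_top h2

end main

end K671.Nbhd
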