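import Groth.Agent.AdjLin.K671.Pencil
import Groth.Agent.AdjLin.K671.LowerBd
import Groth.Agent.AdjLin.K671.H0Up
import Groth.Agent.AdjLin.K671.GammaEx
import Groth.Agent.AdjLin.K671.Nbhd

/-!
# Divisors with large almost isolated multiplicity at a point of a surface

`main`: `L` nef, `L² > (s + 2)²`, `(L·C) ≥ s² + 3 s + 3` for the curves `C ∋ x`. For `m ≫ 0` there is `D ∈ |L^m|` with
multiplicity `≥ m (s + 2)` at `x` and `< m` at the other points near `x`.
-/

set_option autoImplicit false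
universe u
open CategoryTheory CategoryTheory.Limits AlgebraicGeometry TopologicalSpace

namespace K671.IsolDiv

open Groth.Agent Groth.Agent.Divis.CartierBasic Groth.Agent.Divis.EffCartier Groth.Agent.Grpsch.PicGrp K464.Base
  K464.Curves K464.DivLat K464.Comp K671.Mult K671.OrdC K671.SecDiv Groth.Agent.Dix.IdealModCartier

section num

theorem num1 {a γ s : ℤ} (hs : 0 ≤ s) (ha : (s + 2) ^ 2 + 1 ≤ a) (hγ : s ^ 2 + 3 * s + 3 ≤ γ) (hγa : γ ≤ a) :
    (a - γ) ^ 2 + 1 ≤ a * (a - (s + 2) ^ 2) := by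
  have h0 : (0 : ℤ) ≤ s ^ 2 + 2 * s + 2 := by positivity
  have h1 : (s ^ 2 + 4 * s + 5) * (s ^ 2 + 2 * s + 2) ≤ a * (s ^ 2 + 2 * s + 2) :=
    mul_le_mul_of_nonneg_right (by linarith) h0
  have h2 : (a - γ) ^ 2 ≤ (a - (s ^ 2 + 3 * s + 3)) ^ 2 := by
    apply pow_le_pow_left₀ <;> linarith
  nlinarith

theorem num2 {a γ s u hc hh G β α : ℤ} (hs : 0 ≤ s) (ha : (s + 2) ^ 2 + 1 ≤ a) (hγ : s ^ 2 + 3 * s + 3 ≤ γ)
    (hu : 0 ≤ u) (hhc : 0 ≤ hc) (hhh : 0 ≤ hh) (hα : α = 2 * a * u + u ^ 2 + 1)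
    (hG : G = α ^ 2 * a + 2 * α * u + hh) (hβ : β = α * (a - γ) + u - hc) (hβ0 : 0 ≤ β) :
    β ^ 2 + 1 ≤ G * (a - (s + 2) ^ 2) := by
  have ha0 : 0 < a := by nlinarith
  have hα1 : 1 ≤ α := by rw [hα]; nlinarith [mul_nonneg ha0.le hu, sq_nonneg u]
  have hγa : γ ≤ a := by
    by_contra h
    push Not at h
    have h1 : α * (a - γ) ≤ α * (-1) := mul_le_mul_of_nonneg_left (by linarith) (by linarith)
    have h2 : u < α := by rw [hα]; nlinarith [mul_nonneg ha0.le hu, sq_nonneg (u - 1)]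
    linarith
  have h1 := num1 hs ha hγ hγa
  have h2 : β ^ 2 ≤ (α * (a - γ) + u) ^ 2 := by
    apply pow_le_pow_left₀ hβ0
    linarith
  have h3 : a - γ ≤ a := by nlinarith
  have h4 : 2 * α * (a - γ) * u ≤ 2 * α * a * u := by
    have : 2 * α * (a - γ) ≤ 2 * α * a := mul_le_mul_of_nonneg_left h3 (by linarith)
    exact mul_le_mul_of_nonneg_right this hu
  have hκ : 1 ≤ a - (s + 2) ^ 2 := by linarith
  have h5 : α ^ 2 * ((a - γ) ^ 2 + 1) ≤ α ^ 2 * (a * (a - (s + 2) ^ 2)) := mul_le_mul_of_nonneg_left h1 (sq_nonneg α)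
  have h6 : α ^ 2 * a * (a - (s + 2) ^ 2) ≤ G * (a - (s + 2) ^ 2) := by
    refine mul_le_mul_of_nonneg_right ?_ (by linarith)
    rw [hG]
    have : 0 ≤ 2 * α * u := by positivity
    linarith
  have h7 : 2 * α * a * u + u ^ 2 + 1 ≤ α ^ 2 := by
    have h8 : α ^ 2 = α * (2 * a * u) + α * (u ^ 2 + 1) := by
      rw [sq]
      conv_lhs => rw [hα]
      rw [hα]
      ring
    have h9 : 1 * (u ^ 2 + 1) ≤ α * (u ^ 2 + 1) := mul_le_mul_of_nonneg_right hα1 (by positivity)
    rw [h8]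
    linarith
  nlinarith

theorem num3 {G κ b β β₀ c m h : ℤ} (hG : 1 ≤ G) (hb : 1 ≤ b) (hc : 0 ≤ c) (hβ0 : 0 ≤ β)
    (hβ : β ≤ β₀) (hκ : β ^ 2 + 1 ≤ G * κ) (h1 : κ * m ^ 2 - c * m ≤ 2 * h)
    (h2 : 2 * (b ^ 2 * G) * h ≤ (b * (m * β)) ^ 2 + 4 * (b ^ 2 * G) * (b * (m * β)) + 2 * (b ^ 2 * G))
    (hm : G * c + 4 * G * b * β₀ + 2 * G + 1 ≤ m) : False := by
  have hm0 : 1 ≤ m := by
    have : 0 ≤ G * c := by positivity
    have : 0 ≤ 4 * G * b * β₀ := by
      have : 0 ≤ β₀ := hβ0.trans hβ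
      positivity
    linarith
  have hb2 : 0 < b ^ 2 := by positivity
  have h3 : 2 * G * h ≤ m ^ 2 * β ^ 2 + 4 * G * b * m * β + 2 * G := by
    have : b ^ 2 * (2 * G * h) ≤ b ^ 2 * (m ^ 2 * β ^ 2 + 4 * G * b * m * β + 2 * G) := by nlinarith
    exact le_of_mul_le_mul_left this hb2
  have h4 : G * (κ * m ^ 2 - c * m) ≤ G * (2 * h) := mul_le_mul_of_nonneg_left h1 (by linarith)
  have h5 : (β ^ 2 + 1) * m ^ 2 ≤ G * κ * m ^ 2 := mul_le_mul_of_nonneg_right hκ (by positivity)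
  have h6 : 4 * G * b * m * β ≤ 4 * G * b * m * β₀ := mul_le_mul_of_nonneg_left hβ (by positivity)
  have h7 : m * (G * c + 4 * G * b * β₀ + 2 * G + 1) ≤ m * m := mul_le_mul_of_nonneg_left hm (by linarith)
  have h8 : 2 * G * 1 ≤ 2 * G * m := mul_le_mul_of_nonneg_left hm0 (by linarith)
  nlinarith

end num

theorem prod_le {R : Type*} [CommRing R] {ι : Type*} (s : Finset ι) (I : ι → Ideal R) (J : Ideal R)
    (h : ∀ i ∈ s, I i ≤ J) : ∏ i ∈ s, I i ≤ J ^ s.card := by
  classical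
  induction s using Finset.induction_on with
  | empty => simp
  | insert a s ha ih =>
    rw [Finset.prod_insert ha, Finset.card_insert_of_notMem ha, pow_succ']
    exact Ideal.mul_mono (h a (Finset.mem_insert_self _ _)) (ih fun i hi => h i (Finset.mem_insert_of_mem hi))

variable (k : Type u) [Field k] [IsAlgClosed k] {X : Scheme.{u}} [X.Over (Spec (CommRingCat.of k))]
  [IsProper (X ↘ Spec (CommRingCat.of k))] [Smooth (X ↘ Spec (CommRingCat.of k))] [IsIntegral X]
  [IsLocallyNoetherian X]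
  (hdim : topologicalKrullDim X = 2) {H : X.Modules} (hH : CohB1.IsAmple H)
  {L : X.Modules} (hL : PicF.IsInvertible L)
  (hnef : ∀ C : X.IdealSheafData, IsCurve C → 0 ≤ degOn k X C (mk L hL))

include hdim hH hnef

omit [IsLocallyNoetherian X] in
/-- The sections vanishing to the order `m (s + 2)` at `x` do not all vanish to the order `m` along a curve. -/
theorem exists_not_le (x : X) (hx : IsClosed ({x} : Set X)) (s : ℕ)
    (hsq : ((s : ℤ) + 2) ^ 2 + 1 ≤ dot k X (mk L hL) (mk L hL))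
    (hdeg : ∀ C : X.IdealSheafData, IsCurve C → x ∈ C.support → (s : ℤ) ^ 2 + 3 * s + 3 ≤ degOn k X C (mk L hL)) :
    ∃ N : ℕ, 1 ≤ N ∧ ∀ m : ℕ, N ≤ m →
      W k (CohB1.tensorPow L m) (W4c2seshadripos.pointIdeal x hx ^ (m * (s + 2))) ≠ ⊥ ∧
      ∀ C : X.IdealSheafData, IsCurve C → x ∈ C.support →
        ¬ W k (CohB1.tensorPow L m) (W4c2seshadripos.pointIdeal x hx ^ (m * (s + 2))) ≤
          W k (CohB1.tensorPow L m) (C ^ m) := by
  have hd := hdim.le
  set a := dot k X (mk L hL) (mk L hL) with ha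
  have ha0 : 0 < a := by nlinarith [sq_nonneg ((s : ℤ) + 2)]
  set u := dot k X (mk L hL) (mk H hH.1) with hu
  have hu0 : 0 < u := K671.NefVan.dot_pos_of_nef (k := k) hdim hH ha0 hnef
  have hHH : 0 < dot k X (mk H hH.1) (mk H hH.1) := K801.DotForm.dot_ample_pos (k := k) hdim hH
  obtain ⟨N₁, c, hc, hlow⟩ := K671.LowerBd.lower_pt k hdim hH hL hnef ha0 x hx (s + 2)
  -- the ample class
  set α : ℕ := (2 * a * u + u ^ 2 + 1).toNat with hα
  have hαz : (α : ℤ) = 2 * a * u + u ^ 2 + 1 := by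
    rw [hα]
    exact Int.toNat_of_nonneg (by positivity)
  have hnef' : K909.Kleiman.Nef k X L := by
    rw [K801.Bridge.nef_iff k hd hL]
    exact hnef
  have hB := K909.Kleiman.isAmple_combo (nak := K424.NakMain.nak k) (hd := hd) (hnef := hnef') hL hH α 1 one_pos
  have hBc : mk _ hB.1 = mk L hL ^ α * mk H hH.1 := by
    have := K909.Kleiman.mk_combo X hL hH.1 α 1
    rw [pow_one] at this
    exact this
  obtain ⟨b, Γ, hΓ, hE, hb, hΓc⟩ := K671.GammaEx.exists_curve k hdim hB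
  set β₁ := mk _ hB.1 with hβ₁
  set G := dot k X β₁ β₁ with hG
  have hGz : G = (α : ℤ) ^ 2 * a + 2 * α * u + dot k X (mk H hH.1) (mk H hH.1) := by
    rw [hG, hBc, dot_mul_left k X hd, dot_mul_right k X hd, dot_mul_right k X hd, dot_pow_left k X hd,
      dot_pow_right k X hd, dot_pow_left k X hd, dot_pow_right k X hd, dot_comm k X (mk H hH.1) (mk L hL)]
    ring
  have hG1 : 1 ≤ G := by
    rw [hGz]
    have : (0 : ℤ) ≤ (α : ℤ) ^ 2 * a + 2 * α * u := by positivity
    linarith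
  set β₀ := dot k X β₁ (mk L hL) with hβ₀
  have hβ₀0 : 0 ≤ β₀ := by
    rw [hβ₀, hBc, dot_mul_left k X hd, dot_pow_left k X hd, dot_comm k X (mk H hH.1) (mk L hL)]
    positivity
  have hnefΓ : ∀ C : X.IdealSheafData, IsCurve C → 0 ≤ degOn k X C (ic Γ hE)⁻¹ := by
    intro C hC
    rw [hΓc, degOn_pow k hC]
    exact mul_nonneg (by positivity) (degOn_pos_of_ample k hC hB.1 hB).le
  have hΓg : degOn k X Γ (ic Γ hE) = - ((b : ℤ) ^ 2 * G) := by
    rw [degOn_eq_neg_dot k X hE, ← dot_inv_inv k X hd, hΓc, dot_pow_left k X hd, dot_pow_right k X hd]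
    ring
  have hb1 : (1 : ℤ) ≤ b := by exact_mod_cast hb
  set K : ℕ := (G * c + 4 * G * b * β₀ + 2 * G + 1).toNat with hK
  have hKz : (K : ℤ) = G * c + 4 * G * b * β₀ + 2 * G + 1 := by
    rw [hK]
    exact Int.toNat_of_nonneg (by positivity)
  have hκ : 1 ≤ a - ((s : ℤ) + 2) ^ 2 := by linarith
  refine ⟨N₁ + c.toNat + 1 + K, by omega, fun m hm => ?_⟩
  have hm1 : (c : ℤ) + 1 ≤ m := by
    have := Int.self_le_toNat c
    have h2 : ((c.toNat + 1 : ℕ) : ℤ) ≤ m := by exact_mod_cast (by omega : c.toNat + 1 ≤ m)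
    push_cast at h2
    linarith
  have h1 := hlow m (by omega)
  push_cast at h1
  rw [← ha] at h1
  have hLm := Fdesc.LocGen.isInvertible_tensorPow hL m
  set w := Module.finrank k (W k (CohB1.tensorPow L m) (W4c2seshadripos.pointIdeal x hx ^ (m * (s + 2)))) with hw
  have hw0 : 0 < w := by
    have h2 : (0 : ℤ) < 2 * w := by
      refine lt_of_lt_of_le ?_ h1
      have h3 : 1 * (m : ℤ) ^ 2 ≤ (a - ((s : ℤ) + 2) ^ 2) * (m : ℤ) ^ 2 := mul_le_mul_of_nonneg_right hκ (by positivity)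
      nlinarith
    have h4 : (0 : ℤ) < w := by linarith
    exact_mod_cast h4
  have hfin : Module.Finite k (Coh.HH X (CohB1.tensorPow L m) 0) := Fga.HodgeSec.finite_HH k hLm 0
  refine ⟨fun h => ?_, fun C hC hxC hle => ?_⟩
  · rw [hw, h, finrank_bot] at hw0
    exact lt_irrefl _ hw0
  have hCE : BlowUp.IsEffCartierIdeal C := isEff_of_smooth k hdim hC
  have hCm := isEff_pow hCE m
  have hM := Fdesc.LocGen.isInvertible_tensorMod (isInvertible_idealMod hCm) hLm
  have h2 : w ≤ Module.finrank k (Coh.HH X (CohB1.tensorMod (ClSub.idealMod (C ^ m)) (CohB1.tensorPow L m)) 0) := by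
    rw [← finrank_W hLm]
    exact Submodule.finrank_mono hle
  set β := dot k X β₁ (mk L hL * ic C hCE) with hβ
  have hdegM : degOn k X Γ (mk _ hM) = b * (m * β) := by
    have e1 : mk _ hM = (mk L hL * ic C hCE) ^ m := by
      rw [← mk_mul_mk (isInvertible_idealMod hCm) hLm, mk_tensorPow hL, mul_pow, ← ic_pow hCE, mul_comm]
      rfl
    have e2 : ic Γ hE = (β₁ ^ b)⁻¹ := by rw [← hΓc, inv_inv]
    rw [degOn_eq_neg_dot k X hE, e1, e2, dot_inv_left k X hd, neg_neg, dot_pow_left k X hd, dot_pow_right k X hd]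
  have hγ := hdeg C hC hxC
  have hdC := degOn_eq_neg_dot k X hCE (mk L hL)
  have hhC : 0 ≤ degOn k X C (mk H hH.1) := (degOn_pos_of_ample k hC hH.1 hH).le
  have hβz : β = α * (a - degOn k X C (mk L hL)) + u - degOn k X C (mk H hH.1) := by
    rw [hβ, hBc, dot_mul_left k X hd, dot_mul_right k X hd, dot_mul_right k X hd, dot_pow_left k X hd,
      dot_pow_left k X hd, dot_comm k X (mk H hH.1) (mk L hL), degOn_eq_neg_dot k X hCE, degOn_eq_neg_dot k X hCE,
      dot_comm k X (mk L hL) (ic C hCE), dot_comm k X (mk H hH.1) (ic C hCE)]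
    ring
  rcases lt_or_ge β 0 with hβneg | hβpos
  · have h3 := K671.H0Up.h0_zero k hdim hE hnefΓ hM (by
      rw [hdegM]
      have hm0 : (0 : ℤ) < m := by linarith
      have := mul_neg_of_pos_of_neg hm0 hβneg
      nlinarith)
    rw [Module.finrank_zero_of_subsingleton (M := Coh.HH X (CohB1.tensorMod (ClSub.idealMod (C ^ m))
      (CohB1.tensorPow L m)) 0)] at h2
    omega
  · have hm0 : (0 : ℤ) ≤ m := by positivity
    have h3 := K671.H0Up.h0_up k hdim hΓ hE hnefΓ (g := (b : ℤ) ^ 2 * G) (by positivity) hΓg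
      (b * (m * β)).toNat.succ hM (by
        rw [hdegM]
        have := Int.self_le_toNat ((b : ℤ) * (m * β))
        push_cast
        linarith) (by rw [hdegM]; positivity)
    rw [hdegM] at h3
    have hβle : β ≤ β₀ := by
      have e1 : β = β₀ - degOn k X C β₁ := by
        rw [hβ, dot_mul_right k X hd, degOn_eq_neg_dot k X hCE, dot_comm k X β₁ (ic C hCE)]
        ring
      have e2 : 0 ≤ degOn k X C β₁ := (degOn_pos_of_ample k hC hB.1 hB).le
      linarith
    have hnum := num2 (a := a) (γ := degOn k X C (mk L hL)) (s := s) (u := u) (hc := degOn k X C (mk H hH.1))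
      (hh := dot k X (mk H hH.1) (mk H hH.1)) (G := G) (β := β) (α := α) (by positivity) hsq hγ hu0.le hhC hHH.le hαz
      hGz hβz hβpos
    have h4 : (w : ℤ) ≤ Module.finrank k (Coh.HH X (CohB1.tensorMod (ClSub.idealMod (C ^ m))
      (CohB1.tensorPow L m)) 0) := by exact_mod_cast h2
    refine num3 (G := G) (κ := a - ((s : ℤ) + 2) ^ 2) (b := b) (β := β) (β₀ := β₀) (c := c) (m := m)
      hG1 hb1 hc hβpos hβle hnum (h1.trans (mul_le_mul_of_nonneg_left h4 (by norm_num))) h3 ?_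
    rw [← hKz]
    exact_mod_cast (by omega : K ≤ m)

/-- A divisor in `|L^m|` with multiplicity `≥ m (s + 2)` at `x` and order `< m` along the curves through `x`. -/
theorem exists_good (x : X) (hx : IsClosed ({x} : Set X)) (s : ℕ)
    (hsq : ((s : ℤ) + 2) ^ 2 + 1 ≤ dot k X (mk L hL) (mk L hL))
    (hdeg : ∀ C : X.IdealSheafData, IsCurve C → x ∈ C.support → (s : ℤ) ^ 2 + 3 * s + 3 ≤ degOn k X C (mk L hL)) :
    ∃ (m : ℕ) (_ : 1 ≤ m) (D : X.IdealSheafData) (hD : BlowUp.IsEffCartierIdeal D), mk L hL ^ m * ic D hD = 1 ∧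
      stalkIdeal D x ≤ IsLocalRing.maximalIdeal (X.presheaf.stalk x) ^ (m * (s + 2)) ∧
      ∀ (C : X.IdealSheafData) (hC : IsCurve C) (hE : BlowUp.IsEffCartierIdeal C), x ∈ C.support →
        ord hC hE hD < m := by
  classical
  have hd := hdim.le
  obtain ⟨m, hm1, hm⟩ := exists_not_le k hdim hH hL hnef x hx s hsq hdeg
  obtain ⟨hne, hCm⟩ := hm m le_rfl
  have hLm := Fdesc.LocGen.isInvertible_tensorPow hL m
  set u := dot k X (mk L hL) (mk H hH.1) with hu
  have hsq0 : 0 < dot k X (mk L hL) (mk L hL) := by nlinarith [sq_nonneg ((s : ℤ) + 2)]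
  have hu0 : 0 < u := K671.NefVan.dot_pos_of_nef (k := k) hdim hH hsq0 hnef
  obtain ⟨D, hD, hDC⟩ := K671.Pencil.exists_divisors k hdim hLm _ hne x m hCm (u.toNat + 1)
  choose σ hσV hσ using hD
  have hDE : ∀ j, BlowUp.IsEffCartierIdeal (D j) := fun j => (hσ j).eff
  have hprod : (∏ j, D j) = cyc D (fun _ => 1) := by
    unfold cyc
    exact Finset.prod_congr rfl fun j _ => (pow_one _).symm
  have hPE : BlowUp.IsEffCartierIdeal (∏ j, D j) := by
    rw [hprod]
    exact isEff_cyc hDE _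
  have hcl : ∀ j, ic (D j) (hDE j) = (mk L hL ^ m)⁻¹ := fun j => by
    rw [← mk_tensorPow hL, (hσ j).class hLm, inv_inv]
  refine ⟨m * (u.toNat + 1), Nat.mul_pos hm1 (Nat.succ_pos _), ∏ j, D j, hPE, ?_, ?_, ?_⟩
  · rw [ic_congr hPE (isEff_cyc hDE _) hprod, ic_cyc hDE]
    simp only [pow_one, hcl]
    rw [Finset.prod_const, Finset.card_univ, Fintype.card_fin, inv_pow, ← pow_mul, mul_inv_cancel]
  · rw [stalkIdeal_prod]
    refine (prod_le Finset.univ _ (IsLocalRing.maximalIdeal (X.presheaf.stalk x) ^ (m * (s + 2))) fun j _ => ?_).trans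
      ?_
    · have h1 := (mem_W_iff_le hLm (hσ j)).1 (hσV j)
      have h2 := stalkIdeal_mono h1 x
      rwa [K850.JetStalk.stalkIdeal_pointIdeal_pow] at h2
    · rw [Finset.card_univ, Fintype.card_fin, ← pow_mul]
      refine Ideal.pow_le_pow_right ?_
      have : m * (s + 2) * (u.toNat + 1) = m * (u.toNat + 1) * (s + 2) := by ring
      omega
  · intro C hC hE hxC
    rw [ord_prod hC hE Finset.univ hDE hPE]
    have hle1 : ∀ j, ord hC hE (hDE j) = 0 ∨ D j ≤ C := by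
      intro j
      rcases Nat.eq_zero_or_pos (ord hC hE (hDE j)) with h | h
      · exact Or.inl h
      · right
        have := (le_pow_iff hC hE (hDE j) (t := 1)).2 h
        rwa [pow_one] at this
    rcases hDC C hC hxC with h | h
    · have h1 : ∀ j ∈ (Finset.univ : Finset (Fin (u.toNat + 1))), ord hC hE (hDE j) ≤ m - 1 := by
        intro j _
        have h2 : ¬ m ≤ ord hC hE (hDE j) := fun h3 => h j ((le_pow_iff hC hE (hDE j)).2 h3)
        omega
      have h2 := Finset.sum_le_card_nsmul _ _ _ h1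
      rw [Finset.card_univ, Fintype.card_fin, smul_eq_mul] at h2
      have h3 : (u.toNat + 1) * (m - 1) < m * (u.toNat + 1) := by
        rw [mul_comm m]
        exact Nat.mul_lt_mul_of_pos_left (by omega) (Nat.succ_pos _)
      omega
    · by_cases hex : ∃ i, D i ≤ C
      · obtain ⟨i, hi⟩ := hex
        rw [Finset.sum_eq_single i]
        · have h1 := ord_le hC hE k hdim hH (hDE i)
          have h2 : degOn k X (D i) (mk H hH.1) = m * u := by
            rw [degOn_eq_neg_dot k X (hDE i), hcl, dot_inv_left k X hd, neg_neg, dot_pow_left k X hd]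
          rw [h2] at h1
          have h3 : (m : ℤ) * u < (m * (u.toNat + 1) : ℕ) := by
            push_cast
            have h4 := Int.self_le_toNat u
            have h5 : (1 : ℤ) ≤ m := by exact_mod_cast hm1
            nlinarith
          exact_mod_cast lt_of_le_of_lt h1 h3
        · intro j _ hj
          rcases hle1 j with h1 | h1
          · exact h1
          · exact absurd (h j i h1 hi) hj
        · intro h1
          exact absurd (Finset.mem_univ i) h1
      · push Not at hex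
        rw [Finset.sum_eq_zero]
        · exact Nat.mul_pos hm1 (Nat.succ_pos _)
        · intro j _
          exact (hle1 j).resolve_right (hex j)

/-- **Divisors with large almost isolated multiplicity.** -/
theorem main (x : X) (hx : IsClosed ({x} : Set X)) (s : ℕ)
    (hsq : ((s : ℤ) + 2) ^ 2 + 1 ≤ dot k X (mk L hL) (mk L hL))
    (hdeg : ∀ C : X.IdealSheafData, IsCurve C → x ∈ C.support → (s : ℤ) ^ 2 + 3 * s + 3 ≤ degOn k X C (mk L hL)) :
    ∃ m₀ : ℕ, ∀ m : ℕ, m₀ ≤ m → ∃ (I : X.IdealSheafData) (hI : BlowUp.IsEffCartierIdeal I),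
      mk L hL ^ m * ic I hI = 1 ∧
      stalkIdeal I x ≤ IsLocalRing.maximalIdeal (X.presheaf.stalk x) ^ (m * (s + 2)) ∧
      ∃ U : X.Opens, x ∈ U ∧ ∀ y : X, y ∈ U → y ≠ x → ∀ n : ℕ,
        stalkIdeal I y ≤ IsLocalRing.maximalIdeal (X.presheaf.stalk y) ^ n → n < m := by
  have hd := hdim.le
  obtain ⟨m₂, hm₂, D, hD, hDc, hDx, hDC⟩ := exists_good k hdim hH hL hnef x hx s hsq hdeg
  obtain ⟨N, hN1, hN⟩ := exists_not_le k hdim hH hL hnef x hx s hsq hdeg
  set u := dot k X (mk L hL) (mk H hH.1) with hu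
  have hsq0 : 0 < dot k X (mk L hL) (mk L hL) := by nlinarith [sq_nonneg ((s : ℤ) + 2)]
  have hu0 : 0 < u := K671.NefVan.dot_pos_of_nef (k := k) hdim hH hsq0 hnef
  refine ⟨N + m₂ * ((N + m₂) * u.toNat + 1), fun m hm => ?_⟩
  -- division with remainder in `[N, N + m₂)`
  obtain ⟨q, r, hr1, hr2, hqr⟩ : ∃ q r : ℕ, N ≤ r ∧ r < N + m₂ ∧ m = m₂ * q + r := by
    have hNm : N ≤ m := by omega
    refine ⟨(m - N) / m₂, N + (m - N) % m₂, by omega, ?_, ?_⟩
    · have := Nat.mod_lt (m - N) hm₂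
      omega
    · have := Nat.div_add_mod (m - N) m₂
      omega
  have hq : (N + m₂) * u.toNat < q := by
    by_contra hcon
    push Not at hcon
    have h1 : m₂ * q ≤ m₂ * ((N + m₂) * u.toNat) := Nat.mul_le_mul_left _ hcon
    rw [mul_add, mul_one] at hm
    omega
  -- the divisor `R`
  obtain ⟨hne, -⟩ := hN r hr1
  have hLr := Fdesc.LocGen.isInvertible_tensorPow hL r
  obtain ⟨ρ, hρV, hρ0⟩ := (Submodule.ne_bot_iff _).1 hne
  obtain ⟨R, hR⟩ := exists_isDiv hLr (CurvesB.HZero.equivAdd _ ρ) (fun h => hρ0 ((AddEquiv.map_eq_zero_iff _).1 h))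
  have hRE := hR.eff
  have hRc : ic R hRE = (mk L hL ^ r)⁻¹ := by rw [← mk_tensorPow hL, hR.class hLr, inv_inv]
  have hRx : stalkIdeal R x ≤ IsLocalRing.maximalIdeal (X.presheaf.stalk x) ^ (r * (s + 2)) := by
    have h2 := stalkIdeal_mono ((mem_W_iff_le hLr hR).1 hρV) x
    rwa [K850.JetStalk.stalkIdeal_pointIdeal_pow] at h2
  have hDq := isEff_pow hD q
  have hI := isEff_mul hDq hRE
  refine ⟨D ^ q * R, hI, ?_, ?_, ?_⟩
  · rw [ic_mul hDq hRE, ic_pow hD, hRc, hqr, pow_add, pow_mul]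
    have h1 : (mk L hL ^ m₂) ^ q * ic D hD ^ q = 1 := by rw [← mul_pow, hDc, one_pow]
    calc (mk L hL ^ m₂) ^ q * mk L hL ^ r * (ic D hD ^ q * (mk L hL ^ r)⁻¹)
        = ((mk L hL ^ m₂) ^ q * ic D hD ^ q) * (mk L hL ^ r * (mk L hL ^ r)⁻¹) := by ac_rfl
      _ = 1 := by rw [h1, mul_inv_cancel, one_mul]
  · rw [stalkIdeal_mul, stalkIdeal_pow, hqr, add_mul, pow_add]
    refine Ideal.mul_mono ?_ hRx
    have h1 : m₂ * q * (s + 2) = m₂ * (s + 2) * q := by ring
    rw [h1, pow_mul]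
    exact Ideal.pow_right_mono hDx q
  · refine K671.Nbhd.exists_nbhd k hdim hI (by omega) x fun C hC hE hxC => ?_
    rw [ord_mul hC hE hDq hRE, ord_pow hC hE hD]
    have h1 := hDC C hC hE hxC
    have h2 : (ord hC hE hRE : ℤ) ≤ r * u := by
      refine (ord_le hC hE k hdim hH hRE).trans ?_
      rw [degOn_eq_neg_dot k X hRE, hRc, dot_inv_left k X hd, neg_neg, dot_pow_left k X hd]
    have h3 : ord hC hE hRE ≤ r * u.toNat := by
      have h4 : (u.toNat : ℤ) = u := Int.toNat_of_nonneg hu0.le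
      rw [← h4] at h2
      exact_mod_cast h2
    have h4 : r * u.toNat ≤ (N + m₂) * u.toNat := Nat.mul_le_mul_right _ hr2.le
    have h5 : q * ord hC hE hD ≤ q * (m₂ - 1) := Nat.mul_le_mul_left _ (by omega)
    have h6 : q * (m₂ - 1) + q = m₂ * q := by
      obtain ⟨e, rfl⟩ : ∃ e, m₂ = e + 1 := ⟨m₂ - 1, by omega⟩
      simp only [Nat.add_sub_cancel]
      ring
    omega

end K671.IsolDiv
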