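import Groth.Agent.Surf.K463.Restr
import Groth.Agent.Ega3B.HLes
import Groth.Prelude.Def_W4c2seshadriposJets

/-!
# Separation of jets and first cohomology

* `surjective_resH`: `H^1(X, E ⊗ I) = 0` implies `H^0(X, E) → H^0(X, E / I E)` onto.
* `subsingleton_of_surjective`: the converse if `H^1(X, E) = 0`.
-/

set_option autoImplicit false
universe u
open CategoryTheory CategoryTheory.Limits AlgebraicGeometry TopologicalSpace

namespace K671.JetCrit

open Groth.Agent Groth.Agent.Ega3B.HLes Groth.Agent.Fdesc.LocGen Groth.Agent.VarietyB.RestrSeq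
open Groth.Agent.VarietyB.TensCoh (HasBases)

variable {X : Scheme.{u}} {E : X.Modules} (hE : HasBases E) (D : X.IdealSheafData)

theorem toRestr_eq : toRestr hE D =
    (Scheme.Modules.pullbackPushforwardAdjunction D.subschemeι).unit.app E := by
  refine Scheme.Modules.hom_ext _ _ fun U => ?_
  ext ℓ
  exact K463.Restr.toRestr_app hE D ℓ

theorem resH_eq : W4c2seshadripos.resH D E = Sheaf.H.map (abShort (restrSeq hE D)).g 0 := by
  unfold W4c2seshadripos.resH
  rw [← toRestr_eq hE D]
  rfl

include hE in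
/-- `H^1(X, E ⊗ I) = 0` implies that `H^0(X, E) → H^0(X, E / I E)` is onto. -/
theorem surjective_resH (h : Subsingleton (Coh.HH X (CohB1.tensorMod E (ClSub.idealMod D)) 1)) :
    Function.Surjective (W4c2seshadripos.resH D E) := by
  intro y
  have h1 := ab_exact₃ (shortExact_abShort (restrSeq_shortExact hE D)) 0
  have h2 : δab (shortExact_abShort (restrSeq_shortExact hE D)) 0 y = 0 := Subsingleton.elim (α := Coh.HH X (CohB1.tensorMod E (ClSub.idealMod D)) 1) _ _
  obtain ⟨z, hz⟩ := (h1 y).1 h2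
  exact ⟨z, by rw [resH_eq hE D]; exact hz⟩

include hE in
/-- If `H^1(X, E) = 0` and `H^0(X, E) → H^0(X, E / I E)` is onto then `H^1(X, E ⊗ I) = 0`. -/
theorem subsingleton_of_surjective (h : Subsingleton (Coh.HH X E 1))
    (hs : Function.Surjective (W4c2seshadripos.resH D E)) :
    Subsingleton (Coh.HH X (CohB1.tensorMod E (ClSub.idealMod D)) 1) := by
  have hT := shortExact_abShort (restrSeq_shortExact hE D)
  have h1 := ab_exact₁ hT 0
  have h3 := ab_exact₃ hT 0
  refine subsingleton_of_forall_eq (0 : Coh.HH X (CohB1.tensorMod E (ClSub.idealMod D)) 1) fun y => ?_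
  obtain ⟨z, hz⟩ := (h1 y).1 (Subsingleton.elim (α := Coh.HH X E 1) _ _)
  obtain ⟨w, hw⟩ := hs z
  have h4 : Sheaf.H.map (abShort (restrSeq hE D)).g 0 w = z := by
    rw [← hw, resH_eq hE D]
  rw [← hz]
  exact (h3 z).2 ⟨w, h4⟩

end K671.JetCrit
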