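import Groth.Agent.AdjLin.K671.BlowSurf
import Groth.Agent.AdjLin.K671.NefVan
import Groth.Agent.AdjLin.K671.JetCrit
import Groth.Agent.AdjLin.K801.Bridge
import Groth.Agent.Surf.K465.BlowNum
import Groth.Agent.Variety.K432.NefBasic
import Groth.Agent.Dual.H366.ExtQCoh
import Groth.Agent.Dual.H366.ConSec

/-!
# Jets of adjoint modules from nef and big classes on the blow-up of a point of a surface

`f : Y ⟶ X` the blow-up of the closed point `x` of a smooth projective surface in characteristic zero, `e` the class of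
the ideal of the exceptional curve.
* `dot_exc`: `(f^* a + m e · f^* b + n e) = (a·b) - m n`;
* `h1_ideal`: `f^* L + (r + 1) e` nef, `L² > (r + 1)²`, then `H^1(X, m_x^r ⊗ (L ⊗ ω)) = 0`;
* `separates`: `f^* L + (s + 2) e` nef, `L² > (s + 2)²`, then `L ⊗ ω` separates `s`-jets at `x`.
-/

set_option autoImplicit false
universe u
open CategoryTheory CategoryTheory.Limits AlgebraicGeometry

namespace K671.JetMain

open Groth.Agent Groth.Agent.Grpsch.PicGrp K464.Base K464.Curves K671.BlowPow K671.BlowSurf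
  Groth.Agent.Dix.IdealModCartier

theorem intNum_inv (k : Type u) [Field k] {X : Scheme.{u}} [X.Over (Spec (CommRingCat.of k))]
    [IsProper (X ↘ Spec (CommRingCat.of k))] (hd : topologicalKrullDim X ≤ (2 : ℕ)) {L Linv : X.Modules}
    (hL : PicF.IsInvertible L) (hLinv : ClSub.IsInverseOf Linv L) :
    FGA.intNum k X 2 (fun _ : Fin 2 => Linv) (Coh.structureModule X) = dot k X (mk L hL) (mk L hL) := by
  have hi := (isInvertible_of_isInverseOf hLinv).1
  have h0 : (fun _ : Fin 2 => Linv) = ![Linv, Linv] := by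
    funext i
    fin_cases i <;> rfl
  have h1 : mk Linv hi * mk L hL = 1 := by
    rw [mk_mul_mk, mk_eq_one_iff]
    exact hLinv
  rw [h0, intNum_eq_dot k X hd hi hi, eq_inv_of_mul_eq_one_left h1, dot_inv_inv k X hd]

theorem hasBases_of_inv {X : Scheme.{u}} {L : X.Modules} (hL : PicF.IsInvertible L) : VarietyB.TensCoh.HasBases L :=
  VarietyB.TensCoh.HasBases.of_isFinLocFreeOfRank (Groth.Agent.Ega2.QCohLocal.isFinLocFreeOfRank_one_iff.mpr hL)

/-- The class of the ideal of the exceptional curve. -/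
noncomputable def exc {X Y : Scheme.{u}} {x : X} {hx : IsClosed ({x} : Set X)} {f : Y ⟶ X}
    (hbl : BlowUp.IsBlowUp f (W4c2seshadripos.pointIdeal x hx)) : Pic Y :=
  ic (BlowUp.exceptional f (W4c2seshadripos.pointIdeal x hx)) hbl.1

variable (k : Type u) [Field k] [IsAlgClosed k] {X Y : Scheme.{u}} [X.Over (Spec (CommRingCat.of k))]
  [Y.Over (Spec (CommRingCat.of k))] [IsProper (X ↘ Spec (CommRingCat.of k))]
  [Smooth (X ↘ Spec (CommRingCat.of k))] [IsIntegral X] (hdim : topologicalKrullDim X = 2)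
  {H : X.Modules} (hH : CohB1.IsAmple H)
  {x : X} {hx : IsClosed ({x} : Set X)} {f : Y ⟶ X}
  (hf : f ≫ (X ↘ Spec (CommRingCat.of k)) = Y ↘ Spec (CommRingCat.of k))
  (hbl : BlowUp.IsBlowUp f (W4c2seshadripos.pointIdeal x hx))

include hdim hf in
theorem dot_exc (a b : Pic X) (m n : ℕ) :
    dot k Y (pull f a * exc hbl ^ m) (pull f b * exc hbl ^ n) = dot k X a b - m * n := by
  have := proper k hdim hf hbl
  have := smooth k hdim hf hbl
  have := isIntegral k hdim hbl
  have : Smooth (Y ↘ Spec (CommRingCat.of k)) := SmoothOfRelativeDimension.smooth 2 _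
  have hd := (dim_eq k hdim hf hbl).le
  obtain ⟨h1, h2, h3⟩ := K465.BlowNum.dots (k := k) hdim x hx f hf.symm hbl
  have h2' : ∀ c : Pic X, dot k Y (pull f c) (exc hbl) = 0 := h2
  have h3' : dot k Y (exc hbl) (exc hbl) = -1 := h3
  rw [dot_mul_right k Y hd, dot_mul_left k Y hd, dot_mul_left k Y hd]
  simp only [dot_pow_left k Y hd, dot_pow_right k Y hd]
  rw [dot_comm k Y (exc hbl) (pull f b), h1, h2', h2', h3']
  ring

include hdim hf hbl in
/-- The pull-back of a nef class is nef. -/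
theorem nef_pull {L : X.Modules} (hL : PicF.IsInvertible L)
    (h : ∀ C : X.IdealSheafData, IsCurve C → 0 ≤ degOn k X C (mk L hL)) (C : Y.IdealSheafData) (hC : IsCurve C) :
    0 ≤ degOn k Y C (pull f (mk L hL)) := by
  have := proper k hdim hf hbl
  have h1 : K432.NefBasic.Nef (X ↘ Spec (CommRingCat.of k)) L :=
    (K432.NefBasic.nef_iff_hyp L hL).1 fun C hC hC' => h C ⟨hC, hC'⟩
  have hp : IsProper (f ≫ (X ↘ Spec (CommRingCat.of k))) := by rw [hf]; infer_instance
  have h2 := h1.pullback hL f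
  rw [hf] at h2
  exact (K432.NefBasic.nef_iff_hyp _ (Fdesc.LocGen.isInvertible_pullback f hL)).2 h2 C hC.integral hC.dim

include hdim hf in
/-- The hypothesis of nefness in the form of the milestones. -/
theorem nef_of_hyp {L : X.Modules} (hL : PicF.IsInvertible L) (t : ℕ)
    (h : ∀ (C : Scheme.{u}) (i : C ⟶ Y) [IsClosedImmersion i], IsIntegral C → topologicalKrullDim C = 1 →
      (0 : ℝ) ≤ (Pic13.curveDeg k (i ≫ (Y ↘ (Spec (CommRingCat.of k))))
          ((Scheme.Modules.pullback i).obj ((Scheme.Modules.pullback f).obj L)) : ℝ) +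
        (t : ℝ) * (Pic13.curveDeg k (i ≫ (Y ↘ (Spec (CommRingCat.of k))))
          ((Scheme.Modules.pullback i).obj
            (ClSub.idealMod (BlowUp.exceptional f (W4c2seshadripos.pointIdeal x hx)))) : ℝ))
    (C : Y.IdealSheafData) (hC : IsCurve C) : 0 ≤ degOn k Y C (pull f (mk L hL) * exc hbl ^ t) := by
  have := proper k hdim hf hbl
  have hd := (dim_eq k hdim hf hbl).le
  have hd1 : topologicalKrullDim C.subscheme = 1 := (dim_sub Y C).trans hC.dim
  have h1 := h C.subscheme C.subschemeι hC.integral hd1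
  rw [K801.Bridge.curveDeg_eq k hd C.subschemeι hd1 (Fdesc.LocGen.isInvertible_pullback f hL),
    K801.Bridge.curveDeg_eq k hd C.subschemeι hd1 (isInv_exc hbl), Scheme.IdealSheafData.ker_subschemeι] at h1
  rw [degOn_mul k hC, degOn_pow k hC]
  have h2 : (0 : ℝ) ≤ ((degOn k Y C (pull f (mk L hL)) + t * degOn k Y C (exc hbl) : ℤ) : ℝ) := by
    push_cast
    exact h1
  exact_mod_cast h2

include hdim hf in
/-- `H^1(X, m_x^r ⊗ (L ⊗ ω)) = 0` from a vanishing on the blow-up. -/
theorem h1_ideal_of {ω : X.Modules} (hω : ExtPow.IsExtPow 2 (Omega.sheaf (X ↘ Spec (CommRingCat.of k))) ω)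
    {L : X.Modules} (hL : PicF.IsInvertible L) (r : ℕ) {M M' : Y.Modules} (hM : PicF.IsInvertible M)
    (hMe : mk M hM = pull f (mk L hL) * exc hbl ^ (r + 1)) (hM' : ClSub.IsInverseOf M' M)
    (h0 : Subsingleton (Coh.HH Y M' 1)) :
    Subsingleton (Coh.HH X (CohB1.tensorMod (ClSub.idealMod ((W4c2seshadripos.pointIdeal x hx) ^ r))
        (CohB1.tensorMod L ω)) 1) := by
  have := proper k hdim hf hbl
  have hs := smooth k hdim hf hbl
  obtain ⟨ωY, hωY⟩ := Dual.H366.ExtQCoh.exists_isExtPow 2 (Dual.H366.ConSec.isQCoh_omega (Y ↘ Spec (CommRingCat.of k)))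
  have hωi := K455.Canon.isInvertible (Y ↘ Spec (CommRingCat.of k)) 2 hωY
  have h1 : Subsingleton (Coh.HH Y (CohB1.tensorMod ωY M) 1) := K671.NefVan.canon_of_inv hωY hM' h0
  obtain ⟨e⟩ := nonempty_adjoint k hdim hf hbl hω hωY hL r 1
  have hE : BlowUp.IsEffCartierIdeal (BlowUp.exceptional f (W4c2seshadripos.pointIdeal x hx) ^ (r + 1)) :=
    Divis.EffCartier.isEff_pow hbl.1 (r + 1)
  have hfL := Fdesc.LocGen.isInvertible_pullback f hL
  have h2 : Nonempty (CohB1.tensorMod ωY M ≅ CohB1.tensorMod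
        (ClSub.idealMod ((BlowUp.exceptional f (W4c2seshadripos.pointIdeal x hx)) ^ (r + 1)))
        (CohB1.tensorMod ((Scheme.Modules.pullback f).obj L) ωY)) := by
    rw [← mk_eq_iff (Fdesc.LocGen.isInvertible_tensorMod hωi hM)
      (Fdesc.LocGen.isInvertible_tensorMod (isInvertible_idealMod hE) (Fdesc.LocGen.isInvertible_tensorMod hfL hωi)),
      ← mk_mul_mk hωi hM, ← mk_mul_mk (isInvertible_idealMod hE) (Fdesc.LocGen.isInvertible_tensorMod hfL hωi),
      ← mk_mul_mk hfL hωi, hMe]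
    change mk ωY hωi * (pull f (mk L hL) * exc hbl ^ (r + 1)) = ic _ hE * (pull f (mk L hL) * mk ωY hωi)
    have h3 : ic _ hE = exc hbl ^ (r + 1) := ic_pow hbl.1 (r + 1)
    rw [h3]
    ac_rfl
  obtain ⟨e2⟩ := h2
  have h4 := Fga.HShift.subsingleton_of_iso e2 1 h1
  exact e.symm.toEquiv.subsingleton

variable [CharZero k]

include hdim hH hf in
/-- **Vanishing of `H^1(X, m_x^r ⊗ (L ⊗ ω))`.** -/
theorem h1_ideal {ω : X.Modules} (hω : ExtPow.IsExtPow 2 (Omega.sheaf (X ↘ Spec (CommRingCat.of k))) ω)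
    {L : X.Modules} (hL : PicF.IsInvertible L) (r : ℕ)
    (hsq : ((r : ℤ) + 1) ^ 2 < dot k X (mk L hL) (mk L hL))
    (hnef : ∀ C : Y.IdealSheafData, IsCurve C → 0 ≤ degOn k Y C (pull f (mk L hL) * exc hbl ^ (r + 1))) :
    Subsingleton (Coh.HH X (CohB1.tensorMod (ClSub.idealMod ((W4c2seshadripos.pointIdeal x hx) ^ r))
        (CohB1.tensorMod L ω)) 1) := by
  have := proper k hdim hf hbl
  have hs := smooth k hdim hf hbl
  have := isIntegral k hdim hbl
  have hd := dim_eq k hdim hf hbl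
  have : Smooth (Y ↘ Spec (CommRingCat.of k)) := SmoothOfRelativeDimension.smooth 2 _
  obtain ⟨HY, hHY⟩ := exists_ample k hdim hbl H hH
  obtain ⟨M, hM, hMe⟩ := exists_mk (pull f (mk L hL) * exc hbl ^ (r + 1))
  obtain ⟨M', hM'i, hM'⟩ := K890.Polarized.exists_inverse hM
  refine h1_ideal_of k hdim hf hbl hω hL r hM hMe.symm hM' (K671.NefVan.h1_inv (k := k) hd hHY hM hM' ?_ ?_)
  · rw [← hMe, dot_exc k hdim hf hbl]
    push_cast
    nlinarith
  · rw [← hMe]
    exact hnef

include hdim hH hf in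
/-- **Separation of jets.** -/
theorem separates {ω : X.Modules} (hω : ExtPow.IsExtPow 2 (Omega.sheaf (X ↘ Spec (CommRingCat.of k))) ω)
    {L : X.Modules} (hL : PicF.IsInvertible L) (s : ℕ)
    (hsq : ((s : ℤ) + 2) ^ 2 < dot k X (mk L hL) (mk L hL))
    (hnef : ∀ C : Y.IdealSheafData, IsCurve C → 0 ≤ degOn k Y C (pull f (mk L hL) * exc hbl ^ (s + 2))) :
    W4c2seshadripos.SeparatesJets (CohB1.tensorMod L ω) x hx s := by
  have h1 : SmoothOfRelativeDimension 2 (X ↘ Spec (CommRingCat.of k)) := K801.SmDim.relDim_of_smooth k X 2 hdim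
  have hωi := K455.Canon.isInvertible (X ↘ Spec (CommRingCat.of k)) 2 hω
  have h2 := h1_ideal k hdim hH hf hbl hω hL (s + 1) (by push_cast; linarith [hsq]) hnef
  exact K671.JetCrit.surjective_resH (hasBases_of_inv (Fdesc.LocGen.isInvertible_tensorMod hL hωi)) _
    (Fga.HShift.subsingleton_of_iso (Ega2.Tens.swap _ _) 1 h2)

end K671.JetMain
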