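import Groth.Agent.AdjLin.K671.Mult
import Groth.Agent.Surf.K464.Comp

/-!
# The order of vanishing of an effective divisor along a curve
-/

set_option autoImplicit false
universe u
open CategoryTheory CategoryTheory.Limits AlgebraicGeometry TopologicalSpace

namespace K671.OrdC

open Groth.Agent Groth.Agent.Divis.CartierBasic Groth.Agent.Divis.EffCartier K464.Base K464.Curves K464.DivLat
  K671.Mult Groth.Agent.Grpsch.PicGrp

variable {X : Scheme.{u}} [IsLocallyNoetherian X] {C : X.IdealSheafData} (hC : IsCurve C)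
  (hE : BlowUp.IsEffCartierIdeal C)

include hE in
theorem exists_ord {D : X.IdealSheafData} (hD : BlowUp.IsEffCartierIdeal D) :
    ∃ (n : ℕ) (J : X.IdealSheafData), BlowUp.IsEffCartierIdeal J ∧ D = C ^ n * J ∧ gp hC ∉ J.support := by
  obtain ⟨n, J, hJ, h1, h2⟩ := exists_split (ι := Unit) (C := fun _ => C) (fun _ => hC) (fun _ => hE) hD
  refine ⟨n (), J, hJ, ?_, h2 ()⟩
  rw [h1]
  unfold cyc
  simp

/-- The order of vanishing of `D` along `C`. -/
noncomputable def ord {D : X.IdealSheafData} (hD : BlowUp.IsEffCartierIdeal D) : ℕ := (exists_ord hC hE hD).choose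

theorem ord_spec {D : X.IdealSheafData} (hD : BlowUp.IsEffCartierIdeal D) :
    ∃ J : X.IdealSheafData, BlowUp.IsEffCartierIdeal J ∧ D = C ^ ord hC hE hD * J ∧ gp hC ∉ J.support :=
  (exists_ord hC hE hD).choose_spec

theorem stalk_eq {D : X.IdealSheafData} (hD : BlowUp.IsEffCartierIdeal D) :
    stalkIdeal D (gp hC) = stalkIdeal C (gp hC) ^ ord hC hE hD := by
  obtain ⟨J, -, h1, h2⟩ := ord_spec hC hE hD
  conv_lhs => rw [h1]
  rw [stalkIdeal_mul, stalkIdeal_pow, (notMem_support_iff_stalkIdeal_eq_top _ _).1 h2, Ideal.mul_top]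

include hE in
omit [IsLocallyNoetherian X] in
theorem pow_le_pow_iff {m n : ℕ} : stalkIdeal C (gp hC) ^ n ≤ stalkIdeal C (gp hC) ^ m ↔ m ≤ n := by
  constructor
  · intro h
    obtain ⟨g, hg, hgs⟩ := exists_stalkIdeal_eq_span hE (gp hC)
    rw [hgs] at h
    refine le_of_pow_le_pow hg (fun hu => ?_) h
    have h2 := (mem_support_iff_stalkIdeal_ne_top C _).1 (gp_mem hC)
    rw [hgs, Ideal.span_singleton_eq_top.2 hu] at h2
    exact h2 rfl
  · exact fun h => Ideal.pow_le_pow_right h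

theorem ord_unique {D : X.IdealSheafData} (hD : BlowUp.IsEffCartierIdeal D) {n : ℕ}
    (h : stalkIdeal D (gp hC) = stalkIdeal C (gp hC) ^ n) : ord hC hE hD = n := by
  rw [stalk_eq hC hE hD] at h
  exact le_antisymm ((pow_le_pow_iff hC hE).1 h.symm.le) ((pow_le_pow_iff hC hE).1 h.le)

theorem le_pow_iff {D : X.IdealSheafData} (hD : BlowUp.IsEffCartierIdeal D) {t : ℕ} :
    D ≤ C ^ t ↔ t ≤ ord hC hE hD := by
  constructor
  · intro h
    have h1 := stalkIdeal_mono h (gp hC)
    rw [stalk_eq hC hE hD, stalkIdeal_pow] at h1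
    exact (pow_le_pow_iff hC hE).1 h1
  · intro h
    obtain ⟨J, -, h1, -⟩ := ord_spec hC hE hD
    rw [h1]
    refine (mul_le_left _ _).trans ?_
    obtain ⟨d, hd⟩ := Nat.exists_eq_add_of_le h
    rw [hd, pow_add]
    exact mul_le_left _ _

theorem ord_congr {D D' : X.IdealSheafData} (hD : BlowUp.IsEffCartierIdeal D) (hD' : BlowUp.IsEffCartierIdeal D')
    (h : D = D') : ord hC hE hD = ord hC hE hD' := by subst h; rfl

theorem ord_mul {D D' : X.IdealSheafData} (hD : BlowUp.IsEffCartierIdeal D) (hD' : BlowUp.IsEffCartierIdeal D') :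
    ord hC hE (isEff_mul hD hD') = ord hC hE hD + ord hC hE hD' := by
  refine ord_unique hC hE _ ?_
  rw [stalkIdeal_mul, stalk_eq hC hE hD, stalk_eq hC hE hD', pow_add]

theorem ord_pow {D : X.IdealSheafData} (hD : BlowUp.IsEffCartierIdeal D) (n : ℕ) :
    ord hC hE (isEff_pow hD n) = n * ord hC hE hD := by
  refine ord_unique hC hE _ ?_
  rw [stalkIdeal_pow, stalk_eq hC hE hD, ← pow_mul, mul_comm]

theorem ord_prod {ι : Type*} (s : Finset ι) {D : ι → X.IdealSheafData} (hD : ∀ i, BlowUp.IsEffCartierIdeal (D i))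
    (hp : BlowUp.IsEffCartierIdeal (∏ i ∈ s, D i)) :
    ord hC hE hp = ∑ i ∈ s, ord hC hE (hD i) := by
  refine ord_unique hC hE _ ?_
  rw [stalkIdeal_prod, ← Finset.prod_pow_eq_pow_sum]
  exact Finset.prod_congr rfl fun i _ => stalk_eq hC hE (hD i)

omit hC hE in
theorem ord_cyc {ι : Type*} [Fintype ι] {C : ι → X.IdealSheafData} (hC : ∀ i, IsCurve (C i))
    (hE : ∀ i, BlowUp.IsEffCartierIdeal (C i)) (hinj : Function.Injective C) (n : ι → ℕ) (i : ι) :
    ord (hC i) (hE i) (isEff_cyc hE n) = n i := by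
  refine ord_unique _ _ _ ?_
  rw [stalkIdeal_cyc (fun j hj => gp_notMem_of_ne hC hinj hj)]

/-- The order is bounded by the degree. -/
theorem ord_le (k : Type u) [Field k] [X.Over (Spec (CommRingCat.of k))] [IsProper (X ↘ Spec (CommRingCat.of k))]
    [Smooth (X ↘ Spec (CommRingCat.of k))] [IsIntegral X] (hdim : topologicalKrullDim X = 2)
    {H : X.Modules} (hH : CohB1.IsAmple H) {D : X.IdealSheafData} (hD : BlowUp.IsEffCartierIdeal D) :
    (ord hC hE hD : ℤ) ≤ degOn k X D (mk H hH.1) := by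
  obtain ⟨J, hJ, h1, -⟩ := ord_spec hC hE hD
  have h2 : degOn k X D (mk H hH.1) = ord hC hE hD * degOn k X C (mk H hH.1) + degOn k X J (mk H hH.1) := by
    conv_lhs => rw [h1]
    rw [K464.Comp.degOn_eff_mul k hdim.le (isEff_pow hE _) hJ]
    congr 1
    rw [degOn_eq_neg_dot k X (isEff_pow hE _), degOn_eq_neg_dot k X hE, ic_pow hE, dot_pow_left k X hdim.le]
    ring
  have h3 := degOn_pos_of_ample k hC hH.1 hH
  have h4 : 0 ≤ degOn k X J (mk H hH.1) :=
    K464.Comp.degOn_nonneg_of_forall k hdim (fun C' hC' => (degOn_pos_of_ample k hC' hH.1 hH).le) hJ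
  rw [h2]
  nlinarith

end K671.OrdC
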