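import Groth.Agent.AdjLin.K671.SecDiv
import Groth.Agent.AdjLin.K671.OrdC
import Mathlib.GroupTheory.CosetCover

/-!
# Many divisors in a linear system with controlled multiplicities along curves

`X` a smooth projective surface, `M` invertible, `V ⊆ H⁰(X, M)`, `x ∈ X` such that `V` is contained in no
`H⁰(X, M(-m C))`, `C ∋ x` an integral curve. Then for every `n` there are divisors `D_1, …, D_n` of sections in `V`
such that for every integral curve `C ∋ x` either `ord_C(D_j) < m` for all `j` or at most one `D_j` contains `C`.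
-/

set_option autoImplicit false
universe u
open CategoryTheory CategoryTheory.Limits AlgebraicGeometry TopologicalSpace

namespace K671.Pencil

open Groth.Agent Groth.Agent.Divis.CartierBasic Groth.Agent.Divis.EffCartier K464.Base K464.Curves K464.DivLat
  K671.Mult K671.OrdC K671.SecDiv Groth.Agent.Grpsch.PicGrp

section lin

variable {k : Type*} [Field k] [Infinite k] {E : Type*} [AddCommGroup E] [Module k E] {ι : Type*} [Finite ι]

theorem exists_notMem (V : Submodule k E) (T : ι → Submodule k E) (h : ∀ i, ¬ V ≤ T i) :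
    ∃ τ ∈ V, ∀ i, τ ∉ T i := by
  by_contra hcon
  push Not at hcon
  obtain ⟨i, hi⟩ := Subspace.exists_eq_top_of_iUnion_eq_univ (p := fun i => (T i).comap V.subtype) (by
    rw [Set.eq_univ_iff_forall]
    intro v
    obtain ⟨i, hi⟩ := hcon v v.2
    exact Set.mem_iUnion.2 ⟨i, hi⟩)
  exact h i (Submodule.comap_subtype_eq_top.1 hi)

theorem exists_family (V : Submodule k E) (T : ι → Submodule k E) (h : ∀ i, ¬ V ≤ T i) {σ₀ : E} (hσ₀ : σ₀ ∈ V)
    (n : ℕ) : ∃ (τ : E) (l : Fin n → k), Function.Injective l ∧ (∀ j, τ + l j • σ₀ ∈ V) ∧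
      ∀ j i, τ + l j • σ₀ ∉ T i := by
  obtain ⟨τ, hτ, hT⟩ := exists_notMem V T h
  have hfin : (⋃ i, {c : k | τ + c • σ₀ ∈ T i}).Finite := by
    refine Set.finite_iUnion fun i => Set.Subsingleton.finite fun c hc d hd => ?_
    by_contra hne
    have hc' : τ + c • σ₀ ∈ T i := hc
    have hd' : τ + d • σ₀ ∈ T i := hd
    have h1 : (c - d) • σ₀ ∈ T i := by
      have := sub_mem hc' hd'
      rwa [add_sub_add_left_eq_sub, ← sub_smul] at this
    have h2 : σ₀ ∈ T i := by
      have := (T i).smul_mem (c - d)⁻¹ h1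
      rwa [smul_smul, inv_mul_cancel₀ (sub_ne_zero.2 hne), one_smul] at this
    refine hT i ?_
    have := sub_mem hc' ((T i).smul_mem c h2)
    rwa [add_sub_cancel_right] at this
  have hinf := hfin.infinite_compl
  let f := hinf.natEmbedding
  refine ⟨τ, fun j => (f j.1 : k), fun a b hab => ?_, fun j => ?_, fun j i hji => ?_⟩
  · exact Fin.ext (f.injective (Subtype.ext hab))
  · exact V.add_mem hτ (V.smul_mem _ hσ₀)
  · exact (f j.1).2 (Set.mem_iUnion.2 ⟨i, hji⟩)

end lin

variable (k : Type u) [Field k] [Infinite k] {X : Scheme.{u}} [X.Over (Spec (CommRingCat.of k))]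
  [IsProper (X ↘ Spec (CommRingCat.of k))] [Smooth (X ↘ Spec (CommRingCat.of k))] [IsIntegral X]
  [IsLocallyNoetherian X] (hdim : topologicalKrullDim X = 2)

include hdim in
theorem exists_divisors {M : X.Modules} (hM : PicF.IsInvertible M) (V : Submodule k (Coh.HH X M 0)) (hV : V ≠ ⊥)
    (x : X) (m : ℕ) (hVC : ∀ C : X.IdealSheafData, IsCurve C → x ∈ C.support → ¬ V ≤ W k M (C ^ m)) (n : ℕ) :
    ∃ D : Fin n → X.IdealSheafData,
      (∀ j, ∃ σ ∈ V, IsDiv (CurvesB.HZero.equivAdd M σ) (D j)) ∧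
      ∀ C : X.IdealSheafData, IsCurve C → x ∈ C.support →
        (∀ j, ¬ D j ≤ C ^ m) ∨ ∀ i j, D i ≤ C → D j ≤ C → i = j := by
  classical
  obtain ⟨σ₀, hσ₀, hne⟩ := (Submodule.ne_bot_iff V).1 hV
  have hne' : CurvesB.HZero.equivAdd M σ₀ ≠ 0 := fun h => hne ((AddEquiv.map_eq_zero_iff _).1 h)
  obtain ⟨D₀, hD₀⟩ := exists_isDiv hM _ hne'
  have hnoeth : IsNoetherian X := Fga.IntAdd.isNoetherian k X
  obtain ⟨r, C, e, hC, hinj, -, hcyc⟩ := K464.Comp.exists_eq_cyc k (X ↘ Spec (CommRingCat.of k)) hdim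
    (fun x => S1535.result k X x) D₀ hD₀.eff
  let T : Option (Fin r) → Submodule k (Coh.HH X M 0) := fun o => match o with
    | none => ⊥
    | some i => if x ∈ (C i).support then W k M (C i ^ m) else ⊥
  have hT : ∀ o, ¬ V ≤ T o := by
    rintro (_ | i)
    · intro h
      exact hV (le_bot_iff.1 h)
    · by_cases hi : x ∈ (C i).support
      · simp only [T, if_pos hi]
        exact hVC (C i) (hC i) hi
      · simp only [T, if_neg hi]
        intro h
        exact hV (le_bot_iff.1 h)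
  obtain ⟨τ, l, hl, hlV, hlT⟩ := exists_family V T hT hσ₀ n
  have hj0 : ∀ j, CurvesB.HZero.equivAdd M (τ + l j • σ₀) ≠ 0 := fun j h =>
    hlT j none ((Submodule.mem_bot k).2 ((AddEquiv.map_eq_zero_iff _).1 h))
  choose D hD using fun j => exists_isDiv hM _ (hj0 j)
  refine ⟨D, fun j => ⟨_, hlV j, hD j⟩, fun C' hC' hx => ?_⟩
  by_cases hex : ∃ i, C i = C'
  · obtain ⟨i, rfl⟩ := hex
    left
    intro j hle
    have h1 := hlT j (some i)
    simp only [T, if_pos hx] at h1
    exact h1 ((mem_W_iff_le hM (hD j)).2 hle)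
  · right
    intro i j hi hj
    by_contra hij
    have h1 := (mem_W_iff_le (k := k) hM (hD i)).2 hi
    have h2 := (mem_W_iff_le (k := k) hM (hD j)).2 hj
    have h3 : (l i - l j) • σ₀ ∈ W k M C' := by
      have := sub_mem h1 h2
      rwa [add_sub_add_left_eq_sub, ← sub_smul] at this
    have h4 : σ₀ ∈ W k M C' := by
      have := (W k M C').smul_mem (l i - l j)⁻¹ h3
      rwa [smul_smul, inv_mul_cancel₀ (sub_ne_zero.2 fun h => hij (hl h)), one_smul] at this
    have h5 : D₀ ≤ C' := (mem_W_iff_le hM hD₀).1 h4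
    have h6 : gp hC' ∈ D₀.support := (le_iff_gp_mem hC' D₀).1 h5
    rw [hcyc] at h6
    obtain ⟨a, ha⟩ := Set.mem_iUnion.1 (support_cyc_subset e h6)
    exact hex ⟨a, (eq_of_gp_mem hC' (hC a) ha).symm⟩

end K671.Pencil
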